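import Cfsg.Agent.Lib.Fus.PFusionControl.Posdef
import Cfsg.Agent.Lib.Invol.RegularProducts
import Cfsg.Agent.Lib.Block.SuzukiIdentity
import Cfsg.Agent.Lib.Block.OrderPrimeBase
import Cfsg.Agent.Lib.Block.ElemEight.Values

/-!
# Members of an elementary subgroup whose pairs multiply as in an abelian group

For a simple group the normalised values of the principal block at the classes meeting `B` multiply
like the classes, apart from a term carried by the regular products of a class and its inverse.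
-/

set_option autoImplicit false
set_option linter.unusedSectionVars false
set_option linter.style.haveILetI false

open scoped ComplexConjugate Classical
open Cfsg Cfsg.Agent.Block

namespace Cfsg.Agent.Fus.PFusionControl

universe u

variable {L : Type u} [Group L] [Fintype L] {p : ℕ} [hp : Fact p.Prime] {B : Subgroup L}
  {M : Ideal AlgInt} {c : ℕ}

/-- The conjugates of the nontrivial elements of `B`. -/
def Mem (B : Subgroup L) (a : L) : Prop :=
  ∃ a₀ ∈ B, a₀ ≠ 1 ∧ IsConj a a₀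

/-- The hypotheses of the odd case. -/
structure Data (p : ℕ) (B : Subgroup L) (M : Ideal AlgInt) (c : ℕ) : Prop where
  simple : IsSimpleGroup L
  nonab : ¬ IsMulCommutative L
  odd : p ≠ 2
  isMod : IsPModular p M
  ne : B ≠ ⊥
  exp : ∀ b ∈ B, b ^ p = 1
  col : ∀ b ∈ B, b ≠ 1 → ∃ K : Subgroup (Subgroup.centralizer ({b} : Set L)),
    K.Normal ∧ ¬ p ∣ Nat.card K ∧ ∃ k, K.index = p ^ k ∧ c = p ^ k
  le_col : Nat.card B ≤ c
  pair : ∀ a b : L, Mem B a → Mem B b → ∃ a' ∈ B, ∃ b' ∈ B, IsConj a a' ∧ IsConj b b' ∧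
    ∀ i j : ℕ, ∀ x, IsPPart p (a ^ i * b ^ j) x → IsConj x (a' ^ i * b' ^ j)

theorem Mem.conj {a b : L} (h : Mem B a) (hab : IsConj a b) : Mem B b := by
  obtain ⟨a₀, h1, h2, h3⟩ := h
  exact ⟨a₀, h1, h2, hab.symm.trans h3⟩

theorem Mem.of_mem {a : L} (ha : a ∈ B) (h1 : a ≠ 1) : Mem B a := ⟨a, ha, h1, IsConj.refl a⟩

theorem Mem.ne_one {a : L} (h : Mem B a) : a ≠ 1 := by
  obtain ⟨a₀, -, h2, h3⟩ := h
  rintro rfl
  exact h2 (isConj_one_right.1 h3)

theorem Mem.inv {a : L} (h : Mem B a) : Mem B a⁻¹ := by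
  obtain ⟨a₀, h1, h2, h3⟩ := h
  obtain ⟨t, ht⟩ := _root_.isConj_iff.1 h3
  exact ⟨a₀⁻¹, inv_mem h1, inv_ne_one.2 h2, _root_.isConj_iff.2 ⟨t, by rw [← ht]; group⟩⟩

/-- An element is regular exactly when its `p`-part is trivial. -/
theorem regular_iff_part {g x : L} (hx : IsPPart p g x) : ¬ p ∣ orderOf g ↔ x = 1 := by
  obtain ⟨y, hxy, -, -, hy⟩ := id hx
  refine ⟨fun hg => pPart_unique hx ⟨g, one_mul g, Commute.one_left g, ⟨0, by simp⟩, hg⟩, fun h => ?_⟩
  rw [← hxy, h, one_mul]; exact hy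

theorem exists_part (g : L) : ∃ x, IsPPart p g x := by
  obtain ⟨u, v, huv, hc, hu, hv, -, -⟩ := exists_pPart_zpowers (p := p) g
  exact ⟨u, v, huv, hc, hu, hv⟩

theorem orderOf_conj (t a : L) : orderOf (t * a * t⁻¹) = orderOf a := by
  rw [← MulAut.conj_apply, MulEquiv.orderOf_eq]

/-- The share of the conjugates of `b` whose product with `a` is regular. -/
noncomputable def mu (p : ℕ) (a b : L) : ℝ :=
  ((Finset.univ.filter fun g : L => ¬ p ∣ orderOf (a * (g * b * g⁻¹))).card : ℝ) / Nat.card L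

/-- The share of the conjugates of `b` whose product with `a` has `p`-part in the class `K`. -/
noncomputable def share (p : ℕ) (a b : L) (K : ConjClasses L) : ℝ :=
  ((Finset.univ.filter fun g : L =>
    ∃ x, IsPPart p (a * (g * b * g⁻¹)) x ∧ ConjClasses.mk x = K).card : ℝ) / Nat.card L

/-- The regular part of a product of normalised values. -/
noncomputable def regPart (p : ℕ) (χ : IrrCharacter L) (a b : L) : ℂ :=
  (∑ g ∈ Finset.univ.filter (fun g : L => ¬ p ∣ orderOf (a * (g * b * g⁻¹))),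
    (χ : L → ℂ) (a * (g * b * g⁻¹))) / ((Nat.card L : ℂ) * (χ : L → ℂ) 1)

theorem sum_conj_right {β : Type*} [AddCommMonoid β] (F : L → β) (a : L) {b b' : L} (h : IsConj b b') :
    ∑ g : L, F (a * (g * b' * g⁻¹)) = ∑ g : L, F (a * (g * b * g⁻¹)) := by
  obtain ⟨t, rfl⟩ := _root_.isConj_iff.1 h
  exact Fintype.sum_equiv (Equiv.mulRight t) _ _ fun g => by simp [mul_assoc]

theorem mu_conj {a a' b b' : L} (ha : IsConj a a') (hb : IsConj b b') : mu p a b = mu p a' b' := by
  unfold mu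
  congr 2
  rw [Finset.card_filter, Finset.card_filter, sum_conj_right
    (fun w => if ¬ p ∣ orderOf w then 1 else 0) a' hb]
  obtain ⟨t, rfl⟩ := _root_.isConj_iff.1 ha
  refine Fintype.sum_equiv (Equiv.mulLeft t) _ _ fun g => ?_
  refine if_congr ?_ rfl rfl
  rw [Equiv.coe_mulLeft,
    show t * a * t⁻¹ * (t * g * b * (t * g)⁻¹) = t * (a * (g * b * g⁻¹)) * t⁻¹ by group, orderOf_conj]

theorem mu_nonneg (a b : L) : 0 ≤ mu p a b := div_nonneg (Nat.cast_nonneg _) (Nat.cast_nonneg _)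

theorem share_nonneg (a b : L) (K : ConjClasses L) : 0 ≤ share p a b K :=
  div_nonneg (Nat.cast_nonneg _) (Nat.cast_nonneg _)

theorem mu_le_one (a b : L) : mu p a b ≤ 1 := by
  unfold mu
  rw [div_le_one (Nat.cast_pos.2 Nat.card_pos), Nat.card_eq_fintype_card]
  exact Nat.cast_le.2 (Finset.card_le_univ _)

/-- The classes meeting `B` nontrivially. -/
noncomputable def memClasses (B : Subgroup L) : Finset (ConjClasses L) :=
  (Finset.univ.filter fun b : L => b ∈ B ∧ b ≠ 1).image ConjClasses.mk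

theorem mem_memClasses {K : ConjClasses L} :
    K ∈ memClasses B ↔ ∃ b ∈ B, b ≠ 1 ∧ ConjClasses.mk b = K := by
  simp only [memClasses, Finset.mem_image, Finset.mem_filter, Finset.mem_univ, true_and]
  exact ⟨fun ⟨b, ⟨h1, h2⟩, h3⟩ => ⟨b, h1, h2, h3⟩, fun ⟨b, h1, h2, h3⟩ => ⟨b, ⟨h1, h2⟩, h3⟩⟩

/-- The index type of the classes. -/
abbrev Cls (B : Subgroup L) : Type u := ↥(memClasses B)

/-- A representative in `B`. -/
noncomputable def rep (K : Cls B) : L := (mem_memClasses.1 K.2).choose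

theorem rep_mem (K : Cls B) : rep K ∈ B := (mem_memClasses.1 K.2).choose_spec.1

theorem rep_ne (K : Cls B) : rep K ≠ 1 := (mem_memClasses.1 K.2).choose_spec.2.1

theorem mk_rep (K : Cls B) : ConjClasses.mk (rep K) = (K : ConjClasses L) :=
  (mem_memClasses.1 K.2).choose_spec.2.2

theorem rep_Mem (K : Cls B) : Mem B (rep K) := Mem.of_mem (rep_mem K) (rep_ne K)

/-- The class of a member. -/
noncomputable def cls {a : L} (h : Mem B a) : Cls B :=
  ⟨ConjClasses.mk a, mem_memClasses.2 ⟨h.choose, h.choose_spec.1, h.choose_spec.2.1,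
    (ConjClasses.mk_eq_mk_iff_isConj.2 h.choose_spec.2.2).symm⟩⟩

theorem cls_eq_iff {a : L} (h : Mem B a) (K : Cls B) : cls h = K ↔ IsConj a (rep K) := by
  rw [← ConjClasses.mk_eq_mk_iff_isConj, mk_rep]
  exact Subtype.ext_iff

theorem eq_iff_isConj (K J : Cls B) : K = J ↔ IsConj (rep K) (rep J) := by
  rw [← ConjClasses.mk_eq_mk_iff_isConj, mk_rep, mk_rep]
  exact Subtype.ext_iff

/-- The class of the inverses. -/
noncomputable def Cls.inv (K : Cls B) : Cls B := cls (rep_Mem K).inv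

theorem rep_inv (K : Cls B) : IsConj (rep K)⁻¹ (rep K.inv) :=
  (cls_eq_iff (rep_Mem K).inv K.inv).1 rfl

theorem Cls.inv_inv (K : Cls B) : K.inv.inv = K := by
  rw [Cls.inv, cls_eq_iff]
  obtain ⟨t, ht⟩ := _root_.isConj_iff.1 (rep_inv K)
  exact _root_.isConj_iff.2 ⟨t⁻¹, by rw [← ht]; group⟩

/-- The permutation of the classes by inversion. -/
noncomputable def invEquiv : Cls B ≃ Cls B :=
  ⟨Cls.inv, Cls.inv, Cls.inv_inv, Cls.inv_inv⟩

/-- The normalised value at a class. -/
noncomputable def val (χ : IrrCharacter L) (K : Cls B) : ℂ :=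
  (χ : L → ℂ) (rep K) / (χ : L → ℂ) 1

theorem value_inv (χ : IrrCharacter L) (K : Cls B) :
    (χ : L → ℂ) (rep K.inv) = conj ((χ : L → ℂ) (rep K)) := by
  rw [← irr_apply_inv χ (rep K)]
  exact (Cfsg.Agent.Char.IsClass.eq_of_isConj (irr_classFun χ) (rep_inv K)).symm

theorem val_inv (χ : IrrCharacter L) (K : Cls B) : val χ K.inv = conj (val χ K) := by
  rw [val, val, value_inv, map_div₀, charDeg_spec' χ, Complex.conj_natCast]

variable (h : Data p B M c)
include h

theorem ppow_of_mem {b : L} (hb : b ∈ B) : ∃ k : ℕ, orderOf b = p ^ k := by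
  obtain ⟨i, -, hi⟩ := (Nat.dvd_prime_pow hp.out).1
    (orderOf_dvd_of_pow_eq_one (show b ^ p ^ 1 = 1 by rw [pow_one]; exact h.exp b hb))
  exact ⟨i, hi⟩

theorem orderOf_mem {b : L} (hb : b ∈ B) (h1 : b ≠ 1) : orderOf b = p :=
  orderOf_eq_prime (h.exp b hb) h1

theorem pow_p_eq_one {a : L} (ha : Mem B a) : a ^ p = 1 := by
  obtain ⟨a₀, h1, -, h3⟩ := ha
  obtain ⟨t, ht⟩ := _root_.isConj_iff.1 h3
  have := h.exp a₀ h1
  rw [← ht, conj_pow] at this
  simpa [mul_inv_eq_one] using this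

theorem c_pos : 0 < c := lt_of_lt_of_le Nat.card_pos h.le_col

/-- Values are constant along the sections of `B`. -/
theorem value_section {χ : IrrCharacter L} (hχ : χ ∈ principalBlock M L) {g x b : L}
    (hx : IsPPart p g x) (hb : b ∈ B) (hb1 : b ≠ 1) (hxb : IsConj x b) :
    (χ : L → ℂ) g = (χ : L → ℂ) b := by
  obtain ⟨K, hKn, hK, k, hk, -⟩ := h.col b hb hb1
  obtain ⟨y, hxy, hcom, -, hy⟩ := hx
  obtain ⟨t, ht⟩ := _root_.isConj_iff.1 hxb
  have hc : Commute b (t * y * t⁻¹) := by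
    have := hcom.map (MulAut.conj t).toMonoidHom
    simpa [ht] using this
  let y' : Subgroup.centralizer ({b} : Set L) :=
    ⟨t * y * t⁻¹, Subgroup.mem_centralizer_singleton_iff.2 hc.eq.symm⟩
  have hy' : ¬ p ∣ orderOf y' := by
    rw [← Subgroup.orderOf_coe, show (y' : L) = t * y * t⁻¹ from rfl, orderOf_conj]; exact hy
  haveI := hKn
  rw [← irr_classFun χ g t, ← hxy,
    show t * (x * y) * t⁻¹ = (t * x * t⁻¹) * (t * y * t⁻¹) by group, ht]
  exact Cfsg.Agent.Invol.RegProd.value_eq_of_complement h.isMod (ppow_of_mem h hb) hKn hK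
    (y := y') (regular_mem_of_index_pPow hk hy') hχ

/-- The columns at the classes are orthogonal, of norm `c`. -/
theorem col_orth (K J : Cls B) :
    ∑ χ ∈ Finset.univ.filter (fun χ : IrrCharacter L => χ ∈ principalBlock M L),
      (χ : L → ℂ) (rep K) * conj ((χ : L → ℂ) (rep J)) = if K = J then (c : ℂ) else 0 := by
  rw [← finsum_mem_block]
  split_ifs with hKJ
  · subst hKJ
    obtain ⟨N, hNn, hN, k, hk, hck⟩ := h.col _ (rep_mem K) (rep_ne K)
    rw [Cfsg.Agent.Invol.RegProd.column_eq h.isMod (ppow_of_mem h (rep_mem K)) hNn hN hk hck]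
  · exact principal_pElem_orth h.isMod (ppow_of_mem h (rep_mem K)) (ppow_of_mem h (rep_mem J))
      fun hc => hKJ ((eq_iff_isConj K J).2 hc)

theorem reg_orth (K : Cls B) {y : L} (hy : ¬ p ∣ orderOf y) :
    ∑ χ ∈ Finset.univ.filter (fun χ : IrrCharacter L => χ ∈ principalBlock M L),
      (χ : L → ℂ) y * conj ((χ : L → ℂ) (rep K)) = 0 := by
  rw [← finsum_mem_block]
  exact weak_orth h.isMod isPBlock_principalBlock hy
    (dvd_of_eq (orderOf_mem h (rep_mem K) (rep_ne K)).symm)

/-- The criterion for a regular product. -/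
theorem regular_iff {a b a' b' : L} (hq : ∀ i j : ℕ, ∀ x, IsPPart p (a ^ i * b ^ j) x →
    IsConj x (a' ^ i * b' ^ j)) (i j : ℕ) :
    ¬ p ∣ orderOf (a ^ i * b ^ j) ↔ a' ^ i * b' ^ j = 1 := by
  obtain ⟨x, hx⟩ := exists_part (p := p) (a ^ i * b ^ j)
  rw [regular_iff_part hx]
  have h1 := hq i j x hx
  exact ⟨fun e => isConj_one_right.1 (e ▸ h1), fun e => isConj_one_left.1 (e ▸ h1)⟩

/-- Each product of two members is regular or in the section of a class. -/
theorem product_cases {a b : L} (ha : Mem B a) (hb : Mem B b) :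
    ¬ p ∣ orderOf (a * b) ∨
      ∃ K : Cls B, ∃ x, IsPPart p (a * b) x ∧ IsConj x (rep K) := by
  obtain ⟨a', ha', b', hb', -, -, hq⟩ := h.pair a b ha hb
  obtain ⟨x, hx⟩ := exists_part (p := p) (a * b)
  have h1 := hq 1 1 x (by simpa using hx)
  rw [pow_one, pow_one] at h1
  by_cases he : a' * b' = 1
  · exact Or.inl ((regular_iff_part hx).2 (isConj_one_left.1 (he ▸ h1)))
  · have hm : Mem B x := ⟨_, mul_mem ha' hb', he, h1⟩
    exact Or.inr ⟨cls hm, x, hx, (cls_eq_iff hm _).1 rfl⟩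

/-- Regular products of two classes only occur for a class and its inverse. -/
theorem eq_inv_of_regular {K J : Cls B} {g : L}
    (hr : ¬ p ∣ orderOf (rep K * (g * rep J * g⁻¹))) : J = K.inv := by
  have hb : Mem B (g * rep J * g⁻¹) := (rep_Mem J).conj (_root_.isConj_iff.2 ⟨g, rfl⟩)
  obtain ⟨a', -, b', -, hca, hcb, hq⟩ := h.pair _ _ (rep_Mem K) hb
  have h1 : ¬ p ∣ orderOf (rep K ^ 1 * (g * rep J * g⁻¹) ^ 1) := by simpa using hr
  rw [regular_iff h hq, pow_one, pow_one] at h1
  rw [← inv_eq_of_mul_eq_one_right h1] at hcb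
  obtain ⟨t, ht⟩ := _root_.isConj_iff.1 hca
  rw [eq_iff_isConj]
  have h2 : IsConj (rep J) (g * rep J * g⁻¹) := _root_.isConj_iff.2 ⟨g, rfl⟩
  have h3 : IsConj (rep K)⁻¹ a'⁻¹ := _root_.isConj_iff.2 ⟨t, by rw [← ht]; group⟩
  exact h2.trans (hcb.trans (h3.symm.trans (rep_inv K)))

/-- The shares add up to one. -/
theorem share_sum {a b : L} (ha : Mem B a) (hb : Mem B b) :
    ∑ K : Cls B, share p a b (K : ConjClasses L) + mu p a b = 1 := by
  have hG : (Nat.card L : ℝ) ≠ 0 := Nat.cast_ne_zero.2 Nat.card_pos.ne'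
  unfold share mu
  rw [← Finset.sum_div, ← add_div, div_eq_one_iff_eq hG]
  simp only [Finset.card_filter, Nat.cast_sum]
  rw [Finset.sum_comm, ← Finset.sum_add_distrib, Nat.card_eq_fintype_card, ← Finset.card_univ,
    Finset.cast_card]
  refine Finset.sum_congr rfl fun g _ => ?_
  rcases product_cases h ha (hb.conj (_root_.isConj_iff.2 ⟨g, rfl⟩)) with hr | ⟨K, x, hx, hxK⟩
  · rw [Finset.sum_eq_zero fun K _ => by
      rw [if_neg]
      · simp
      rintro ⟨x, hx, hxK⟩
      rw [(regular_iff_part hx).1 hr, ← mk_rep K, ConjClasses.mk_eq_mk_iff_isConj] at hxK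
      exact rep_ne K (isConj_one_right.1 hxK), if_pos hr]
    simp
  · have hm : ConjClasses.mk x = (K : ConjClasses L) := by
      rw [← mk_rep K, ConjClasses.mk_eq_mk_iff_isConj]; exact hxK
    have hnr : p ∣ orderOf (a * (g * b * g⁻¹)) := by
      by_contra hr
      rw [(regular_iff_part hx).1 hr] at hxK
      exact rep_ne K (isConj_one_right.1 hxK)
    rw [Finset.sum_eq_single K, if_pos ⟨x, hx, hm⟩, if_neg (not_not.2 hnr)]
    · simp
    · intro J _ hJ
      rw [if_neg]
      · simp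
      rintro ⟨y, hy, hyJ⟩
      rw [pPart_unique hy hx, hm] at hyJ
      exact hJ (Subtype.ext hyJ.symm)
    · exact fun hK => absurd (Finset.mem_univ K) hK

/-- The product of two normalised values. -/
theorem val_mul {χ : IrrCharacter L} (hχ : χ ∈ principalBlock M L) {a b : L} (ha : Mem B a)
    (hb : Mem B b) :
    (χ : L → ℂ) a / (χ : L → ℂ) 1 * ((χ : L → ℂ) b / (χ : L → ℂ) 1) =
      ∑ K : Cls B, (share p a b (K : ConjClasses L) : ℂ) * val χ K + regPart p χ a b := by
  have hG : (Nat.card L : ℂ) ≠ 0 := Nat.cast_ne_zero.2 Nat.card_pos.ne'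
  have hd := irr_one_ne_zero χ
  have h1 := sum_mul_conj χ a b
  have h2 : ∑ g : L, (χ : L → ℂ) (a * (g * b * g⁻¹)) =
      ∑ K : Cls B, ((Finset.univ.filter fun g : L => ∃ x, IsPPart p (a * (g * b * g⁻¹)) x ∧
          ConjClasses.mk x = (K : ConjClasses L)).card : ℂ) * (χ : L → ℂ) (rep K) +
        ∑ g ∈ Finset.univ.filter (fun g : L => ¬ p ∣ orderOf (a * (g * b * g⁻¹))),
          (χ : L → ℂ) (a * (g * b * g⁻¹)) := by
    simp only [Finset.card_filter, Nat.cast_sum, Finset.sum_mul]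
    rw [Finset.sum_comm, Finset.sum_filter, ← Finset.sum_add_distrib]
    refine Finset.sum_congr rfl fun g _ => ?_
    rcases product_cases h ha (hb.conj (_root_.isConj_iff.2 ⟨g, rfl⟩)) with hr | ⟨K, x, hx, hxK⟩
    · rw [Finset.sum_eq_zero fun K _ => by
        rw [if_neg]
        · simp
        rintro ⟨x, hx, hxK⟩
        rw [(regular_iff_part hx).1 hr, ← mk_rep K, ConjClasses.mk_eq_mk_iff_isConj] at hxK
        exact rep_ne K (isConj_one_right.1 hxK), if_pos hr, zero_add]
    · have hm : ConjClasses.mk x = (K : ConjClasses L) := by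
        rw [← mk_rep K, ConjClasses.mk_eq_mk_iff_isConj]; exact hxK
      have hnr : p ∣ orderOf (a * (g * b * g⁻¹)) := by
        by_contra hr
        rw [(regular_iff_part hx).1 hr] at hxK
        exact rep_ne K (isConj_one_right.1 hxK)
      rw [Finset.sum_eq_single K, if_pos ⟨x, hx, hm⟩, if_neg (not_not.2 hnr), Nat.cast_one, one_mul,
        add_zero, value_section h hχ hx (rep_mem K) (rep_ne K) hxK]
      · intro J _ hJ
        rw [if_neg]
        · simp
        rintro ⟨y, hy, hyJ⟩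
        rw [pPart_unique hy hx, hm] at hyJ
        exact hJ (Subtype.ext hyJ.symm)
      · exact fun hK => absurd (Finset.mem_univ K) hK
  rw [h1] at h2
  unfold share regPart val
  push_cast
  simp only [div_mul_div_comm, ← Finset.sum_div, ← add_div]
  rw [div_eq_div_iff (mul_ne_zero hd hd) (mul_ne_zero hG hd)]
  rw [← h2]
  field_simp

/-- The shares as moments of the principal block. -/
theorem share_eq (K J N : Cls B) :
    (share p (rep K) (rep J) (N : ConjClasses L) : ℂ) * c =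
      ∑ χ ∈ Finset.univ.filter (fun χ : IrrCharacter L => χ ∈ principalBlock M L),
        (χ : L → ℂ) (rep K) * (χ : L → ℂ) (rep J) * conj ((χ : L → ℂ) (rep N)) / (χ : L → ℂ) 1 := by
  have e : ∀ χ ∈ Finset.univ.filter (fun χ : IrrCharacter L => χ ∈ principalBlock M L),
      (χ : L → ℂ) (rep K) * (χ : L → ℂ) (rep J) * conj ((χ : L → ℂ) (rep N)) / (χ : L → ℂ) 1 =
        ∑ U : Cls B, (share p (rep K) (rep J) (U : ConjClasses L) : ℂ) *
            ((χ : L → ℂ) (rep U) * conj ((χ : L → ℂ) (rep N))) +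
          ∑ g ∈ Finset.univ.filter (fun g : L => ¬ p ∣ orderOf (rep K * (g * rep J * g⁻¹))),
            (Nat.card L : ℂ)⁻¹ * ((χ : L → ℂ) (rep K * (g * rep J * g⁻¹)) *
              conj ((χ : L → ℂ) (rep N))) := by
    intro χ hχ
    have hd := irr_one_ne_zero χ
    have h1 := congrArg (fun w => w * ((χ : L → ℂ) 1 * conj ((χ : L → ℂ) (rep N))))
      (val_mul h (Finset.mem_filter.1 hχ).2 (rep_Mem K) (rep_Mem J))
    simp only [add_mul, Finset.sum_mul, regPart, val, div_eq_mul_inv, mul_inv] at h1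
    simp only [div_eq_mul_inv]
    rw [show (χ : L → ℂ) (rep K) * (χ : L → ℂ) (rep J) * conj ((χ : L → ℂ) (rep N)) *
        ((χ : L → ℂ) 1)⁻¹ = (χ : L → ℂ) (rep K) * ((χ : L → ℂ) 1)⁻¹ *
          ((χ : L → ℂ) (rep J) * ((χ : L → ℂ) 1)⁻¹) *
            ((χ : L → ℂ) 1 * conj ((χ : L → ℂ) (rep N))) by field_simp, h1]
    congr 1
    · exact Finset.sum_congr rfl fun U _ => by field_simp
    · exact Finset.sum_congr rfl fun g _ => by field_simp
  rw [Finset.sum_congr rfl e, Finset.sum_add_distrib]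
  conv_rhs =>
    rw [Finset.sum_comm, Finset.sum_comm (s := Finset.univ.filter _) (t := Finset.univ.filter _)]
  simp only [← Finset.mul_sum, col_orth h]
  rw [Finset.sum_eq_zero (s := Finset.univ.filter fun g : L => _) fun g hg => by
    rw [reg_orth h N (Finset.mem_filter.1 hg).2]]
  simp

/-- The symmetry of the shares. -/
theorem share_symm (K J N : Cls B) :
    share p (rep K) (rep J) (N : ConjClasses L) =
      share p (rep K) (rep N.inv) (J.inv : ConjClasses L) := by
  refine Complex.ofReal_inj.1 (mul_right_cancel₀ (b := (c : ℂ))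
    (Nat.cast_ne_zero.2 (c_pos h).ne') ?_)
  rw [share_eq h, share_eq h]
  refine Finset.sum_congr rfl fun χ _ => ?_
  rw [value_inv, value_inv, Complex.conj_conj]
  ring

end Cfsg.Agent.Fus.PFusionControl
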