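import Cfsg.Agent.Lib.Fus.PFusionControl.Base

/-!
# The first three moments of the average value at the classes
-/

set_option autoImplicit false
set_option linter.unusedSectionVars false
set_option linter.style.haveILetI false

open scoped ComplexConjugate Classical
open Cfsg Cfsg.Agent.Block

namespace Cfsg.Agent.Fus.PFusionControl

universe u

variable {L : Type u} [Group L] [Fintype L] {p : ℕ} [hp : Fact p.Prime] {B : Subgroup L}
  {M : Ideal AlgInt} {c : ℕ}

/-- The average normalised value. -/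
noncomputable def avg (B : Subgroup L) (χ : IrrCharacter L) : ℝ :=
  (∑ K : Cls B, (val χ K).re) / Fintype.card (Cls B)

/-- The degree as a real number. -/
noncomputable def deg (χ : IrrCharacter L) : ℝ := (charDegree (χ : L → ℂ) : ℝ)

theorem deg_pos (χ : IrrCharacter L) : 0 < deg χ := Nat.cast_pos.2 (charDeg_pos χ)

theorem one_eq_deg (χ : IrrCharacter L) : (χ : L → ℂ) 1 = ((deg χ : ℝ) : ℂ) := by
  rw [deg, Complex.ofReal_natCast]; exact charDeg_spec' χ

theorem norm_val_le (χ : IrrCharacter L) (K : Cls B) : ‖val χ K‖ ≤ 1 := by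
  have h1 := Cfsg.Agent.Char.IsChar.norm_le (irr_isChar χ) (rep K)
  rw [one_eq_deg χ, Complex.norm_real, Real.norm_of_nonneg (deg_pos χ).le] at h1
  rw [val, norm_div, one_eq_deg χ, Complex.norm_real, Real.norm_of_nonneg (deg_pos χ).le,
    div_le_one (deg_pos χ)]
  exact h1

theorem re_val (χ : IrrCharacter L) (K : Cls B) :
    (val χ K).re = ((χ : L → ℂ) (rep K)).re / deg χ := by
  rw [val, one_eq_deg χ, Complex.div_ofReal_re]

theorem avg_trivial [Nonempty (Cls B)] : avg B (trivialIrr L) = 1 := by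
  have h1 : ∀ K : Cls B, (val (trivialIrr L) K).re = 1 := fun K => by simp [val, trivialIrr]
  rw [avg, Finset.sum_congr rfl fun K _ => h1 K, Finset.sum_const, Finset.card_univ, nsmul_one,
    div_self (Nat.cast_ne_zero.2 Fintype.card_pos.ne')]

theorem deg_trivial : deg (trivialIrr L) = 1 := by
  rw [deg, show ((trivialIrr L : IrrCharacter L) : L → ℂ) = fun _ => (1 : ℂ) from rfl,
    charDeg_trivial, Nat.cast_one]

variable (h : Data p B M c)
include h

theorem exists_ne_one : ∃ b ∈ B, b ≠ 1 := by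
  obtain ⟨b, hb⟩ := (Subgroup.ne_bot_iff_exists_ne_one).1 h.ne
  exact ⟨b, b.2, fun e => hb (Subtype.ext e)⟩

theorem nonempty_cls : Nonempty (Cls B) := by
  obtain ⟨b, hb, hb1⟩ := exists_ne_one h
  exact ⟨cls (Mem.of_mem hb hb1)⟩

theorem r_pos : (0 : ℝ) < Fintype.card (Cls B) := by
  haveI := nonempty_cls h
  exact Nat.cast_pos.2 Fintype.card_pos

/-- A character of full absolute value at a member is trivial. -/
theorem norm_lt {χ : IrrCharacter L} (hne : χ ≠ trivialIrr L) {u : L} (hu : u ≠ 1) :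
    ‖(χ : L → ℂ) u‖ < deg χ := by
  haveI := h.simple
  obtain ⟨n, ρ, hρ, hχ, hn, -⟩ := Cfsg.Agent.Char.IsIrr.exists_rep χ.2
  have hd : deg χ = (n : ℝ) := by
    have h1 := one_eq_deg χ
    rw [hn, ← Complex.ofReal_natCast] at h1
    exact (Complex.ofReal_inj.1 h1).symm
  refine lt_of_le_of_ne ?_ fun he => hu ?_
  · have h1 := Cfsg.Agent.Char.IsChar.norm_le (irr_isChar χ) u
    rwa [one_eq_deg χ, Complex.norm_real, Real.norm_of_nonneg (deg_pos χ).le] at h1
  rw [← hχ, hd] at he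
  obtain ⟨w, hw⟩ := (Cfsg.Agent.Char.norm_character_eq_iff ρ u).1
    (by rw [Module.finrank_fin_fun]; exact he)
  have hcomm : ∀ g : L, ρ (u * g * u⁻¹ * g⁻¹) = 1 := fun g => by
    have e1 : ρ (u * g) = ρ (g * u) := by
      rw [map_mul, map_mul, hw]; ext; simp
    have e2 : u * g * u⁻¹ * g⁻¹ = (u * g) * (g * u)⁻¹ := by group
    rw [e2, map_mul, e1, ← map_mul, mul_inv_cancel, map_one]
  have hcen : u ∈ Subgroup.center L := Subgroup.mem_center_iff.2 fun g => by
    have h1 : (χ : L → ℂ) (u * g * u⁻¹ * g⁻¹) = (χ : L → ℂ) 1 := by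
      rw [← hχ]
      simp only [Representation.character, hcomm, map_one]
    have h2 := OrdP.eq_one_of_value hne h1
    rw [mul_inv_eq_one, mul_inv_eq_iff_eq_mul] at h2
    exact h2.symm
  rcases IsSimpleGroup.eq_bot_or_eq_top_of_normal (Subgroup.center L) inferInstance with hb | ht
  · exact Subgroup.mem_bot.1 (hb ▸ hcen)
  · exact absurd ⟨⟨fun a b => (Subgroup.mem_center_iff.1 (ht ▸ Subgroup.mem_top b) a)⟩⟩ h.nonab

theorem re_val_lt {χ : IrrCharacter L} (hne : χ ≠ trivialIrr L) (K : Cls B) : (val χ K).re < 1 := by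
  rw [re_val, div_lt_one (deg_pos χ)]
  exact (Complex.re_le_norm _).trans_lt (norm_lt h hne (rep_ne K))

theorem avg_lt_one {χ : IrrCharacter L} (hne : χ ≠ trivialIrr L) : avg B χ < 1 := by
  haveI := nonempty_cls h
  rw [avg, div_lt_one (r_pos h)]
  calc ∑ K : Cls B, (val χ K).re < ∑ _K : Cls B, (1 : ℝ) :=
        Finset.sum_lt_sum_of_nonempty Finset.univ_nonempty fun K _ => re_val_lt h hne K
    _ = _ := by simp

omit h in
theorem avg_cast (χ : IrrCharacter L) :
    ((avg B χ : ℝ) : ℂ) = (∑ K : Cls B, val χ K) / (Fintype.card (Cls B) : ℂ) := by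
  rw [avg, Complex.ofReal_div, Complex.ofReal_natCast]
  congr 1
  have him : (∑ K : Cls B, val χ K).im = 0 := by
    have h1 : ∑ K : Cls B, val χ K = conj (∑ K : Cls B, val χ K) := by
      rw [map_sum]
      refine (Fintype.sum_equiv invEquiv _ _ fun K => ?_).symm
      exact (val_inv χ K).symm
    have := congrArg Complex.im h1
    rw [Complex.conj_im] at this
    linarith
  apply Complex.ext
  · rw [Complex.ofReal_re, Complex.re_sum]
  · rw [Complex.ofReal_im, him]

theorem trivial_mem : trivialIrr L ∈ principalBlock M L := trivial_mem_principalBlock h.isMod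

/-- Every class meets `B` twice. -/
theorem two_le_fibre {z : L} (hz : z ∈ B) (hz1 : z ≠ 1) : ∃ b ∈ B, b ≠ z ∧ IsConj z b := by
  by_contra hcon
  push Not at hcon
  have huniq : ∀ b ∈ B, IsConj z b → b = z := fun b hb hc => by_contra fun e => hcon b hb e hc
  have hzo := orderOf_mem h hz hz1
  -- powers
  have huniq' : ∀ k, k < p → 0 < k → ∀ b ∈ B, IsConj (z ^ k) b → b = z ^ k := by
    intro k hk hk0 b hb hc
    obtain ⟨l, hl⟩ := exists_pow_eq_self_of_coprime (G := L) (x := z) (n := k) (by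
      rw [hzo]
      exact (Nat.coprime_comm.1 ((Nat.Prime.coprime_iff_not_dvd hp.out).2 fun hd =>
        Nat.not_lt.2 (Nat.le_of_dvd hk0 hd) hk)))
    obtain ⟨t, ht⟩ := _root_.isConj_iff.1 hc
    have h1 : b ^ l = z := huniq _ (pow_mem hb l)
      (_root_.isConj_iff.2 ⟨t, by rw [← ht, conj_pow, hl]⟩)
    have hbp := h.exp b hb
    have h2 : (b ^ l) ^ k = b := by
      have hzl : z ^ (k * l) = z ^ 1 := by rw [pow_mul, hl, pow_one]
      rw [pow_eq_pow_iff_modEq, hzo] at hzl
      rw [← pow_mul, mul_comm, ← pow_one b, ← pow_mul, one_mul]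
      exact pow_eq_pow_iff_modEq.2 (Nat.ModEq.of_dvd (orderOf_dvd_of_pow_eq_one hbp) hzl)
    rw [← h2, h1]
  have hval : ∀ χ ∈ principalBlock M L, χ ≠ trivialIrr L → (χ : L → ℂ) z = 0 := by
    intro χ hχ hne
    have hd := irr_one_ne_zero χ
    set x : ℂ := (χ : L → ℂ) z / (χ : L → ℂ) 1 with hx
    have hpow : ∀ k, 1 ≤ k → k < p → (χ : L → ℂ) (z ^ k) / (χ : L → ℂ) 1 = x ^ k := by
      intro k hk1 hkp
      induction k, hk1 using Nat.le_induction with
      | base => rw [pow_one, pow_one, hx]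
      | succ k hk ih =>
        have hzk : z ^ k ≠ 1 := pow_ne_one_of_lt_orderOf (by omega) (by omega)
        have hzk1 : z ^ (k + 1) ≠ 1 := pow_ne_one_of_lt_orderOf (by omega) (by omega)
        have hsum : ∀ g : L, (χ : L → ℂ) (z * (g * z ^ k * g⁻¹)) = (χ : L → ℂ) (z ^ (k + 1)) := by
          intro g
          have hm : Mem B (g * z ^ k * g⁻¹) :=
            (Mem.of_mem (pow_mem hz k) hzk).conj (_root_.isConj_iff.2 ⟨g, rfl⟩)
          obtain ⟨a', ha', b', hb', hca, hcb, hq⟩ := h.pair z _ (Mem.of_mem hz hz1) hm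
          obtain ⟨y, hy⟩ := exists_part (p := p) (z * (g * z ^ k * g⁻¹))
          have h1 := hq 1 1 y (by simpa using hy)
          rw [pow_one, pow_one, huniq a' ha' hca, huniq' k (by omega) (by omega) b' hb'
            (IsConj.trans (_root_.isConj_iff.2 ⟨g, rfl⟩) hcb), ← pow_succ'] at h1
          exact value_section h hχ hy (pow_mem hz _) hzk1 h1
        have h1 := sum_mul_conj χ z (z ^ k)
        simp only [hsum, Finset.sum_const, Finset.card_univ, nsmul_eq_mul,
          ← Nat.card_eq_fintype_card] at h1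
        rw [pow_succ x k, ← ih (by omega), hx]
        have hG : (Nat.card L : ℂ) ≠ 0 := Nat.cast_ne_zero.2 Nat.card_pos.ne'
        field_simp at h1 ⊢
        linear_combination h1
    have hp1 : x ^ (p - 1) = conj x := by
      have hp2 := hp.out.two_le
      have e : z ^ (p - 1) = z⁻¹ := eq_inv_of_mul_eq_one_left (by
        rw [← pow_succ, Nat.sub_add_cancel hp.out.one_le, h.exp z hz])
      rw [← hpow (p - 1) (by omega) (by omega), e, hx, map_div₀, ← irr_apply_inv, one_eq_deg χ,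
        Complex.conj_ofReal]
    by_contra hz0
    have hx0 : ‖x‖ ≠ 0 := by
      rw [norm_ne_zero_iff, hx]; exact div_ne_zero hz0 hd
    have hn := congrArg (fun w : ℂ => ‖w‖) hp1
    simp only [norm_pow, Complex.norm_conj] at hn
    have hlt : ‖x‖ < 1 := by
      rw [hx, norm_div, one_eq_deg χ, Complex.norm_real, Real.norm_of_nonneg (deg_pos χ).le,
        div_lt_one (deg_pos χ)]
      exact norm_lt h hne hz1
    have hp3 : 1 < p - 1 := by
      have := hp.out.two_le
      have := h.odd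
      omega
    have := pow_lt_self_of_lt_one₀ (lt_of_le_of_ne (norm_nonneg x) (Ne.symm hx0)) hlt hp3
    linarith
  -- orthogonality against the identity
  obtain ⟨K, hK⟩ : ∃ K : Cls B, IsConj z (rep K) :=
    ⟨cls (Mem.of_mem hz hz1), (cls_eq_iff _ _).1 rfl⟩
  have h0 := reg_orth h K (y := (1 : L)) (by rw [orderOf_one]; exact hp.out.not_dvd_one)
  rw [Finset.sum_eq_single (trivialIrr L)] at h0
  · simp [trivialIrr] at h0
  · intro χ hχ hne
    rw [← Cfsg.Agent.Char.IsClass.eq_of_isConj (irr_classFun χ) hK,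
      hval χ (Finset.mem_filter.1 hχ).2 hne, map_zero, mul_zero]
  · exact fun hn => absurd (Finset.mem_filter.2 ⟨Finset.mem_univ _, trivial_mem h⟩) hn

/-- There are fewer classes than half the column norm. -/
theorem two_card_lt : 2 * Fintype.card (Cls B) < c := by
  have h1 : 2 * (memClasses B).card ≤ (Finset.univ.filter fun b : L => b ∈ B ∧ b ≠ 1).card := by
    rw [mul_comm, ← smul_eq_mul]
    unfold memClasses
    rw [Finset.card_eq_sum_card_image ConjClasses.mk (Finset.univ.filter fun b : L => b ∈ B ∧ b ≠ 1)]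
    refine Finset.card_nsmul_le_sum _ _ _ fun K hK => ?_
    obtain ⟨z, hz, rfl⟩ := Finset.mem_image.1 hK
    obtain ⟨hzB, hz1⟩ := (Finset.mem_filter.1 hz).2
    obtain ⟨b, hb, hbz, hc⟩ := two_le_fibre h hzB hz1
    have hb1 : b ≠ 1 := fun e => hz1 (isConj_one_left.1 (e ▸ hc))
    refine Finset.one_lt_card.2 ⟨z, Finset.mem_filter.2 ⟨hz, rfl⟩, b, Finset.mem_filter.2
      ⟨Finset.mem_filter.2 ⟨Finset.mem_univ _, hb, hb1⟩,
        (ConjClasses.mk_eq_mk_iff_isConj.2 hc).symm⟩, hbz.symm⟩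
  have h2 : (Finset.univ.filter fun b : L => b ∈ B ∧ b ≠ 1).card < Nat.card B := by
    rw [Nat.card_eq_fintype_card, Fintype.card_subtype]
    refine Finset.card_lt_card ⟨fun b hb => ?_, fun hsub => ?_⟩
    · exact Finset.mem_filter.2 ⟨Finset.mem_univ _, (Finset.mem_filter.1 hb).2.1⟩
    · exact (Finset.mem_filter.1 (hsub (Finset.mem_filter.2 ⟨Finset.mem_univ _, one_mem B⟩))).2.2 rfl
  rw [Fintype.card_coe]
  exact lt_of_le_of_lt h1 (h2.trans_le h.le_col)

theorem regPart_eq_zero {χ : IrrCharacter L} {K J : Cls B} (hne : J ≠ K.inv) :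
    regPart p χ (rep K) (rep J) = 0 := by
  rw [regPart, Finset.sum_eq_zero fun g hg => absurd (eq_inv_of_regular h (Finset.mem_filter.1 hg).2) hne,
    zero_div]

theorem mu_eq_zero {K J : Cls B} (hne : J ≠ K.inv) : mu p (rep K) (rep J) = 0 := by
  rw [mu, Finset.filter_eq_empty_iff.2 fun g _ hg => hne (eq_inv_of_regular h hg), Finset.card_empty,
    Nat.cast_zero, zero_div]

/-- The regular share of a class against its inverse. -/
noncomputable def muCls (_h : Data p B M c) (K : Cls B) : ℝ := mu p (rep K) (rep K.inv)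

theorem share_col (N : Cls B) :
    ∑ K : Cls B, ∑ J : Cls B, share p (rep K) (rep J) (N : ConjClasses L) =
      Fintype.card (Cls B) - muCls h N := by
  have h1 : ∀ K : Cls B, ∑ J : Cls B, share p (rep K) (rep J) (N : ConjClasses L) =
      1 - mu p (rep K) (rep N.inv) := fun K => by
    rw [eq_sub_iff_add_eq, ← share_sum h (rep_Mem K) (rep_Mem N.inv)]
    congr 1
    exact Fintype.sum_equiv invEquiv _ _ fun J => share_symm h K J N
  rw [Finset.sum_congr rfl fun K _ => h1 K, Finset.sum_sub_distrib, Finset.sum_const,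
    Finset.card_univ, nsmul_one, muCls]
  congr 1
  refine Finset.sum_eq_single N (fun K _ hK => mu_eq_zero h fun e => hK ?_)
    (fun hN => absurd (Finset.mem_univ N) hN)
  rw [← Cls.inv_inv K, ← e, Cls.inv_inv]

/-- The square of the average value. -/
theorem avg_rel {χ : IrrCharacter L} (hχ : χ ∈ principalBlock M L) :
    ((avg B χ : ℝ) : ℂ) ^ 2 - ((avg B χ : ℝ) : ℂ) =
      (∑ K : Cls B, (regPart p χ (rep K) (rep K.inv) - (muCls h K : ℂ) * val χ K)) /
        (Fintype.card (Cls B) : ℂ) ^ 2 := by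
  set r : ℂ := (Fintype.card (Cls B) : ℂ) with hr
  have hr0 : r ≠ 0 := Nat.cast_ne_zero.2 (by haveI := nonempty_cls h; exact Fintype.card_pos.ne')
  have h1 : (∑ K : Cls B, val χ K) * (∑ J : Cls B, val χ J) =
      ∑ N : Cls B, (r - (muCls h N : ℂ)) * val χ N +
        ∑ K : Cls B, regPart p χ (rep K) (rep K.inv) := by
    rw [Finset.sum_mul_sum]
    have e : ∀ K J : Cls B, val χ K * val χ J =
        ∑ N : Cls B, (share p (rep K) (rep J) (N : ConjClasses L) : ℂ) * val χ N +
          regPart p χ (rep K) (rep J) := fun K J => val_mul h hχ (rep_Mem K) (rep_Mem J)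
    simp only [e, Finset.sum_add_distrib]
    congr 1
    · rw [Finset.sum_congr rfl fun (K : Cls B) _ => Finset.sum_comm, Finset.sum_comm]
      refine Finset.sum_congr rfl fun N _ => ?_
      simp only [← Finset.sum_mul, ← Complex.ofReal_sum]
      rw [share_col h N, Complex.ofReal_sub, Complex.ofReal_natCast]
    · exact Finset.sum_congr rfl fun K _ => Finset.sum_eq_single K.inv
        (fun J _ hJ => regPart_eq_zero h hJ) fun hn => absurd (Finset.mem_univ _) hn
  rw [avg_cast, ← hr, div_pow, sq (∑ K : Cls B, val χ K), h1, Finset.sum_sub_distrib]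
  simp only [sub_mul, Finset.sum_sub_distrib, ← Finset.mul_sum]
  field_simp
  ring

theorem avg_rel_re {χ : IrrCharacter L} (hχ : χ ∈ principalBlock M L) :
    avg B χ * (1 - avg B χ) =
      (∑ K : Cls B, (muCls h K * (val χ K).re - (regPart p χ (rep K) (rep K.inv)).re)) /
        (Fintype.card (Cls B) : ℝ) ^ 2 := by
  have h1 := congrArg Complex.re (avg_rel h hχ)
  rw [← Complex.ofReal_natCast (Fintype.card (Cls B)), ← Complex.ofReal_pow, ← Complex.ofReal_pow,
    ← Complex.ofReal_sub, Complex.ofReal_re, Complex.div_ofReal_re, Complex.re_sum] at h1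
  simp only [Complex.sub_re, Complex.re_ofReal_mul, Finset.sum_sub_distrib] at h1 ⊢
  rw [sub_div] at h1 ⊢
  linarith

/-- The regular part is bounded below through a pointwise bound. -/
theorem regPart_re_ge {χ : IrrCharacter L} {K : Cls B} {t : ℝ}
    (ht : ∀ b : L, IsConj b (rep K) → t * deg χ ≤ ((χ : L → ℂ) (rep K * b⁻¹)).re) :
    muCls h K * t ≤ (regPart p χ (rep K) (rep K.inv)).re := by
  rw [regPart, muCls, mu, one_eq_deg χ, ← Complex.ofReal_natCast, ← Complex.ofReal_mul,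
    Complex.div_ofReal_re, Complex.re_sum]
  rw [div_mul_eq_mul_div, le_div_iff₀ (mul_pos (Nat.cast_pos.2 Nat.card_pos) (deg_pos χ)),
    div_mul_eq_mul_div, div_le_iff₀ (Nat.cast_pos.2 Nat.card_pos)]
  have hsum := Finset.sum_le_sum (s := Finset.univ.filter fun g : L =>
      ¬ p ∣ orderOf (rep K * (g * rep K.inv * g⁻¹))) (f := fun _ => t * deg χ)
    (g := fun g => ((χ : L → ℂ) (rep K * (g * rep K.inv * g⁻¹))).re) fun g _ => by
      obtain ⟨s, hs⟩ := _root_.isConj_iff.1 (rep_inv K)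
      have := ht (g * rep K.inv * g⁻¹)⁻¹ (_root_.isConj_iff.2 ⟨(g * s)⁻¹, by rw [← hs]; group⟩)
      simpa using this
  rw [Finset.sum_const, nsmul_eq_mul] at hsum
  nlinarith [mul_le_mul_of_nonneg_right hsum (Nat.cast_nonneg (α := ℝ) (Nat.card L))]

/-- The moments. -/
theorem moments :
    (∑ χ ∈ Finset.univ.filter (fun χ : IrrCharacter L => χ ∈ principalBlock M L),
        deg χ ^ 2 * avg B χ = 0) ∧
      (∑ χ ∈ Finset.univ.filter (fun χ : IrrCharacter L => χ ∈ principalBlock M L),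
        deg χ ^ 2 * avg B χ ^ 2 = c / Fintype.card (Cls B)) ∧
      ∑ χ ∈ Finset.univ.filter (fun χ : IrrCharacter L => χ ∈ principalBlock M L),
        deg χ ^ 2 * avg B χ ^ 3 = c / Fintype.card (Cls B) *
          (1 - (∑ K : Cls B, muCls h K) / (Fintype.card (Cls B) : ℝ) ^ 2) := by
  set S := Finset.univ.filter (fun χ : IrrCharacter L => χ ∈ principalBlock M L) with hS
  set r : ℂ := (Fintype.card (Cls B) : ℂ) with hr
  have hr0 : r ≠ 0 := Nat.cast_ne_zero.2 (by haveI := nonempty_cls h; exact Fintype.card_pos.ne')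
  have hdF : ∀ χ : IrrCharacter L, ((deg χ : ℝ) : ℂ) * ((avg B χ : ℝ) : ℂ) =
      (∑ K : Cls B, (χ : L → ℂ) (rep K)) / r := fun χ => by
    rw [avg_cast, ← hr, mul_div_assoc', Finset.mul_sum]
    congr 1
    refine Finset.sum_congr rfl fun K _ => ?_
    rw [val, ← one_eq_deg χ, mul_div_cancel₀ _ (irr_one_ne_zero χ)]
  have hdF' : ∀ χ : IrrCharacter L, ((deg χ : ℝ) : ℂ) * ((avg B χ : ℝ) : ℂ) =
      (∑ K : Cls B, conj ((χ : L → ℂ) (rep K))) / r := fun χ => by
    have := congrArg conj (hdF χ)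
    rwa [map_mul, Complex.conj_ofReal, Complex.conj_ofReal, map_div₀, map_sum, hr,
      Complex.conj_natCast] at this
  have horth : ∀ J : Cls B, ∑ χ ∈ S, (χ : L → ℂ) (rep J) *
      (((deg χ : ℝ) : ℂ) * ((avg B χ : ℝ) : ℂ)) = c / r := fun J => by
    simp only [hdF', mul_div_assoc', Finset.mul_sum]
    rw [← Finset.sum_div, Finset.sum_comm]
    congr 1
    rw [hS, Finset.sum_congr rfl fun K _ => col_orth h J K, Finset.sum_ite_eq,
      if_pos (Finset.mem_univ _)]
  have hreg : ∀ y : L, ¬ p ∣ orderOf y → ∑ χ ∈ S, (χ : L → ℂ) y *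
      (((deg χ : ℝ) : ℂ) * ((avg B χ : ℝ) : ℂ)) = 0 := fun y hy => by
    simp only [hdF', mul_div_assoc', Finset.mul_sum]
    rw [← Finset.sum_div, Finset.sum_comm, Finset.sum_eq_zero fun K _ => reg_orth h K hy, zero_div]
  refine ⟨?_, ?_, ?_⟩ <;> rw [← Complex.ofReal_inj] <;> push_cast
  · rw [← hreg 1 (by rw [orderOf_one]; exact hp.out.not_dvd_one)]
    exact Finset.sum_congr rfl fun χ _ => by rw [one_eq_deg χ]; ring
  · rw [← hr, Finset.sum_congr rfl fun (χ : IrrCharacter L) _ => show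
      ((deg χ : ℝ) : ℂ) ^ 2 * ((avg B χ : ℝ) : ℂ) ^ 2 =
        (∑ J : Cls B, (χ : L → ℂ) (rep J) * (((deg χ : ℝ) : ℂ) * ((avg B χ : ℝ) : ℂ))) / r by
      rw [← Finset.sum_mul, mul_div_right_comm, ← hdF]; ring,
      ← Finset.sum_div, Finset.sum_comm, Finset.sum_congr rfl fun J _ => horth J, Finset.sum_const,
      Finset.card_univ, nsmul_eq_mul, ← hr]
    field_simp
  · rw [← hr]
    have h2 : ∀ χ ∈ S, ((deg χ : ℝ) : ℂ) ^ 2 * ((avg B χ : ℝ) : ℂ) ^ 3 =
        ((deg χ : ℝ) : ℂ) ^ 2 * ((avg B χ : ℝ) : ℂ) ^ 2 +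
          (∑ K : Cls B, (∑ g ∈ Finset.univ.filter
              (fun g : L => ¬ p ∣ orderOf (rep K * (g * rep K.inv * g⁻¹))),
              (χ : L → ℂ) (rep K * (g * rep K.inv * g⁻¹)) *
                (((deg χ : ℝ) : ℂ) * ((avg B χ : ℝ) : ℂ)) / (Nat.card L : ℂ) -
            (muCls h K : ℂ) * ((χ : L → ℂ) (rep K) *
              (((deg χ : ℝ) : ℂ) * ((avg B χ : ℝ) : ℂ))))) / r ^ 2 := by
      intro χ hχ
      have h3 := congrArg (fun w => ((deg χ : ℝ) : ℂ) ^ 2 * ((avg B χ : ℝ) : ℂ) * w)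
        (avg_rel h (Finset.mem_filter.1 hχ).2)
      simp only [← hr] at h3
      rw [← sub_eq_iff_eq_add', show ((deg χ : ℝ) : ℂ) ^ 2 * ((avg B χ : ℝ) : ℂ) ^ 3 -
        ((deg χ : ℝ) : ℂ) ^ 2 * ((avg B χ : ℝ) : ℂ) ^ 2 = ((deg χ : ℝ) : ℂ) ^ 2 *
          ((avg B χ : ℝ) : ℂ) * (((avg B χ : ℝ) : ℂ) ^ 2 - ((avg B χ : ℝ) : ℂ)) by ring, h3,
        mul_div_assoc', Finset.mul_sum]
      congr 1
      refine Finset.sum_congr rfl fun K _ => ?_
      have hd : ((deg χ : ℝ) : ℂ) ≠ 0 := Complex.ofReal_ne_zero.2 (deg_pos χ).ne'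
      rw [regPart, val, one_eq_deg χ, ← Finset.sum_div, ← Finset.sum_mul]
      field_simp
    rw [Finset.sum_congr rfl h2, Finset.sum_add_distrib, ← Finset.sum_div, Finset.sum_comm]
    simp only [Finset.sum_sub_distrib]
    rw [Finset.sum_eq_zero (s := (Finset.univ : Finset (Cls B))) fun K _ => by
      rw [Finset.sum_comm]
      refine Finset.sum_eq_zero fun g hg => ?_
      rw [← Finset.sum_div, hreg _ (Finset.mem_filter.1 hg).2, zero_div]]
    simp only [← Finset.mul_sum, horth, ← Finset.sum_mul]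
    rw [Finset.sum_congr rfl fun (χ : IrrCharacter L) _ => show
      ((deg χ : ℝ) : ℂ) ^ 2 * ((avg B χ : ℝ) : ℂ) ^ 2 =
        (∑ J : Cls B, (χ : L → ℂ) (rep J) * (((deg χ : ℝ) : ℂ) * ((avg B χ : ℝ) : ℂ))) / r by
      rw [← Finset.sum_mul, mul_div_right_comm, ← hdF]; ring,
      ← Finset.sum_div, Finset.sum_comm, Finset.sum_congr rfl fun J _ => horth J, Finset.sum_const,
      Finset.card_univ, nsmul_eq_mul, ← hr]
    field_simp
    ring

/-- The final inequality. -/
theorem absurd_of_bounds {m Mb : ℝ}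
    (hMb : ∀ χ ∈ principalBlock M L, χ ≠ trivialIrr L → avg B χ ≤ Mb)
    (hm : (∑ K : Cls B, muCls h K) ≤ m * (Fintype.card (Cls B) : ℝ) ^ 2)
    (hpos : 0 < 1 - m - Mb) (hle : m ≤ 1 - m - Mb) : False := by
  haveI := nonempty_cls h
  obtain ⟨-, h2, h3⟩ := moments h
  set r : ℝ := (Fintype.card (Cls B) : ℝ) with hr
  have hrp : 0 < r := r_pos h
  set q : ℝ := (c : ℝ) / r with hq
  set mb : ℝ := (∑ K : Cls B, muCls h K) / r ^ 2 with hmb
  have hq2 : 2 < q := by
    rw [hq, lt_div_iff₀ hrp, hr]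
    exact_mod_cast two_card_lt h
  have hmb1 : mb ≤ m := by rw [hmb, div_le_iff₀ (pow_pos hrp 2)]; exact hm
  have hT : trivialIrr L ∈ Finset.univ.filter (fun χ : IrrCharacter L => χ ∈ principalBlock M L) :=
    Finset.mem_filter.2 ⟨Finset.mem_univ _, trivial_mem h⟩
  rw [← Finset.add_sum_erase _ _ hT, avg_trivial, deg_trivial] at h2 h3
  have hle3 : ∀ χ ∈ (Finset.univ.filter fun χ : IrrCharacter L => χ ∈ principalBlock M L).erase
      (trivialIrr L), deg χ ^ 2 * avg B χ ^ 3 ≤ Mb * (deg χ ^ 2 * avg B χ ^ 2) := by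
    intro χ hχ
    have h4 := hMb χ (Finset.mem_filter.1 (Finset.mem_of_mem_erase hχ)).2 (Finset.ne_of_mem_erase hχ)
    nlinarith [mul_le_mul_of_nonneg_left h4 (mul_nonneg (sq_nonneg (deg χ)) (sq_nonneg (avg B χ)))]
  have h5 := Finset.sum_le_sum hle3
  rw [← Finset.mul_sum] at h5
  nlinarith [mul_pos hpos (show 0 < q - 2 by linarith), mul_le_mul_of_nonneg_left hmb1 (le_of_lt (show (0:ℝ) < q by linarith))]

end Cfsg.Agent.Fus.PFusionControl
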