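import Cfsg.Agent.Lib.Fus.PFusionControl.Moments

/-!
# There is no simple group with the data for an odd prime

The average value is small by positive definiteness, and this contradicts the third moment.
-/

set_option autoImplicit false
set_option linter.unusedSectionVars false
set_option linter.style.haveILetI false

open scoped ComplexConjugate Classical
open Cfsg Cfsg.Agent.Block

namespace Cfsg.Agent.Fus.PFusionControl

universe u

theorem one_ne_neg_one_three : (1 : ZMod 3) ≠ -1 := by decide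

variable {L : Type u} [Group L] [Fintype L] {p : ℕ} [hp : Fact p.Prime] {B : Subgroup L}
  {M : Ideal AlgInt} {c : ℕ}

theorem unit_val_pos (k : (ZMod p)ˣ) : 0 < (k : ZMod p).val := by
  rcases Nat.eq_zero_or_pos (k : ZMod p).val with h | h
  · exact absurd ((ZMod.val_eq_zero _).1 h) k.ne_zero
  · exact h

theorem unit_val_lt (k : (ZMod p)ˣ) : (k : ZMod p).val < p :=
  haveI := NeZero.of_pos hp.out.pos
  ZMod.val_lt _

variable (h : Data p B M c)
include h

theorem pow_ne_one {a : L} (ha : a ∈ B) (ha1 : a ≠ 1) (k : (ZMod p)ˣ) : a ^ (k : ZMod p).val ≠ 1 :=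
  pow_ne_one_of_lt_orderOf (unit_val_pos k).ne'
    (by rw [orderOf_mem h ha ha1]; exact unit_val_lt k)

theorem rep_pow_Mem (k : (ZMod p)ˣ) (K : Cls B) : Mem B (rep K ^ (k : ZMod p).val) :=
  Mem.of_mem (pow_mem (rep_mem K) _) (pow_ne_one h (rep_mem K) (rep_ne K) k)

/-- The class of a power. -/
noncomputable def pw (k : (ZMod p)ˣ) (K : Cls B) : Cls B := cls (rep_pow_Mem h k K)

theorem rep_pw (k : (ZMod p)ˣ) (K : Cls B) :
    IsConj (rep K ^ (k : ZMod p).val) (rep (pw h k K)) :=
  (cls_eq_iff (rep_pow_Mem h k K) _).1 rfl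

theorem pow_unit_mul {a : L} (ha : a ^ p = 1) (k l : (ZMod p)ˣ) :
    a ^ ((k * l : (ZMod p)ˣ) : ZMod p).val = (a ^ (l : ZMod p).val) ^ (k : ZMod p).val := by
  rw [← pow_mul, Units.val_mul, ZMod.val_mul, ← pow_eq_pow_mod _ ha, mul_comm]

theorem pw_mul (k l : (ZMod p)ˣ) (K : Cls B) : pw h (k * l) K = pw h k (pw h l K) := by
  refine (cls_eq_iff (rep_pow_Mem h (k * l) K) _).2 ?_
  rw [pow_unit_mul h (h.exp _ (rep_mem K))]
  obtain ⟨t, ht⟩ := _root_.isConj_iff.1 (rep_pw h l K)
  exact IsConj.trans (_root_.isConj_iff.2 ⟨t, by rw [← conj_pow, ht]⟩) (rep_pw h k (pw h l K))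

theorem pw_one (K : Cls B) : pw h 1 K = K := by
  refine (cls_eq_iff (rep_pow_Mem h 1 K) _).2 ?_
  haveI : Fact (1 < p) := ⟨hp.out.one_lt⟩
  rw [Units.val_one, ZMod.val_one, pow_one]

/-- The permutation of the classes by a power map. -/
noncomputable def pwEquiv (k : (ZMod p)ˣ) : Cls B ≃ Cls B :=
  ⟨pw h k, pw h k⁻¹, fun K => by rw [← pw_mul, inv_mul_cancel, pw_one],
    fun K => by rw [← pw_mul, mul_inv_cancel, pw_one]⟩

theorem val_pw (χ : IrrCharacter L) (k : (ZMod p)ˣ) (K : Cls B) :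
    (val χ (pw h k K)).re = ((χ : L → ℂ) (rep K ^ (k : ZMod p).val)).re / deg χ := by
  rw [re_val, Cfsg.Agent.Char.IsClass.eq_of_isConj (irr_classFun χ) (rep_pw h k K)]

/-- Regularity of the products of the powers of two members, through their images. -/
theorem reg_pow_iff {u : L} (hu : Mem B u) (g : L) :
    ∃ a' ∈ B, ∃ b' ∈ B, a' ≠ 1 ∧ ∀ i j : ℕ,
      (¬ p ∣ orderOf (u ^ i * ((g * u * g⁻¹) ^ j)⁻¹) ↔ a' ^ i = b' ^ j) := by
  have hb : Mem B (g * u * g⁻¹) := hu.conj (_root_.isConj_iff.2 ⟨g, rfl⟩)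
  obtain ⟨a', ha', b', hb', hca, -, hq⟩ := h.pair u _ hu hb
  refine ⟨a', ha', b', hb', fun e => hu.ne_one (isConj_one_left.1 (e ▸ hca)), fun i j => ?_⟩
  have hinv : ∀ {x : L}, x ^ p = 1 → (x ^ j)⁻¹ = x ^ ((p - 1) * j) := fun {x} hx =>
    inv_eq_of_mul_eq_one_right (by
      rw [← pow_add, show j + (p - 1) * j = p * j by
        obtain ⟨q, rfl⟩ := Nat.exists_eq_add_of_le hp.out.one_le
        rw [Nat.add_sub_cancel_left]; ring, pow_mul, hx, one_pow])
  rw [hinv (pow_p_eq_one h hb), regular_iff h hq, ← hinv (h.exp b' hb'), mul_inv_eq_one]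

theorem muCls_eq (K : Cls B) : muCls h K = mu p (rep K) (rep K)⁻¹ :=
  mu_conj (IsConj.refl _) (rep_inv K).symm

theorem muCls_pw (k : (ZMod p)ˣ) (K : Cls B) : muCls h (pw h k K) = muCls h K := by
  obtain ⟨t, ht⟩ := _root_.isConj_iff.1 (rep_pw h k K)
  rw [muCls_eq h, muCls_eq h, ← mu_conj (rep_pw h k K)
    (_root_.isConj_iff.2 ⟨t, by rw [← ht]; group⟩ : IsConj (rep K ^ (k : ZMod p).val)⁻¹ (rep (pw h k K))⁻¹)]
  unfold mu
  congr 3
  refine Finset.filter_congr fun g _ => ?_
  obtain ⟨a', ha', b', hb', -, hiff⟩ := reg_pow_iff h (rep_Mem K) g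
  rw [show g * (rep K ^ (k : ZMod p).val)⁻¹ * g⁻¹ = ((g * rep K * g⁻¹) ^ (k : ZMod p).val)⁻¹ by
      rw [conj_pow]; group, hiff,
    show rep K * (g * (rep K)⁻¹ * g⁻¹) = rep K ^ 1 * ((g * rep K * g⁻¹) ^ 1)⁻¹ by
      rw [pow_one, pow_one]; group, hiff, pow_one, pow_one]
  refine ⟨fun e => ?_, fun e => by rw [e]⟩
  obtain ⟨l, hl⟩ : ∃ l : ℕ, ((k : ZMod p).val * l) % p = 1 := ⟨((k⁻¹ : (ZMod p)ˣ) : ZMod p).val, by
    haveI : Fact (1 < p) := ⟨hp.out.one_lt⟩
    rw [← ZMod.val_mul, ← Units.val_mul, mul_inv_cancel, Units.val_one, ZMod.val_one]⟩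
  have := congrArg (· ^ l) e
  simp only [← pow_mul] at this
  rwa [pow_eq_pow_mod _ (h.exp a' ha'), pow_eq_pow_mod _ (h.exp b' hb'), hl, pow_one, pow_one] at this

/-- The regular share times the number of powers fixing the class is at most one. -/
theorem stab_mul_mu_le (K : Cls B) :
    ((Finset.univ.filter fun k : (ZMod p)ˣ => pw h k K = K).card : ℝ) * muCls h K ≤ 1 := by
  set E := Finset.univ.filter fun k : (ZMod p)ˣ => pw h k K = K with hE
  set R : (ZMod p)ˣ → Finset L := fun k => Finset.univ.filter fun g : L =>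
    ¬ p ∣ orderOf (rep K ^ (k : ZMod p).val * (g * (rep K)⁻¹ * g⁻¹)) with hR
  have hcard : ∀ k ∈ E, ((R k).card : ℝ) = muCls h K * Nat.card L := by
    intro k hk
    have hc : IsConj (rep K ^ (k : ZMod p).val) (rep K) := by
      have := rep_pw h k K
      rwa [(Finset.mem_filter.1 hk).2] at this
    rw [muCls_eq h, ← mu_conj hc (IsConj.refl (rep K)⁻¹), mu,
      div_mul_cancel₀ _ (Nat.cast_ne_zero.2 Nat.card_pos.ne')]
  have hdisj : Set.PairwiseDisjoint (E : Set (ZMod p)ˣ) R := by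
    intro k _ l _ hkl
    rw [Function.onFun, Finset.disjoint_left]
    intro g hgk hgl
    obtain ⟨a', ha', b', -, ha1, hiff⟩ := reg_pow_iff h (rep_Mem K) g
    have e : g * (rep K)⁻¹ * g⁻¹ = ((g * rep K * g⁻¹) ^ 1)⁻¹ := by rw [pow_one]; group
    have h1 := (Finset.mem_filter.1 hgk).2
    have h2 := (Finset.mem_filter.1 hgl).2
    rw [e, hiff] at h1 h2
    have h3 := h1.trans h2.symm
    rw [pow_eq_pow_iff_modEq, orderOf_mem h ha' ha1, Nat.ModEq,
      Nat.mod_eq_of_lt (unit_val_lt k), Nat.mod_eq_of_lt (unit_val_lt l)] at h3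
    exact hkl (Units.ext (ZMod.val_injective p h3))
  have h1 : ((E.biUnion R).card : ℝ) ≤ Nat.card L := by
    rw [Nat.card_eq_fintype_card]; exact Nat.cast_le.2 (Finset.card_le_univ _)
  rw [Finset.card_biUnion hdisj, Nat.cast_sum, Finset.sum_congr rfl hcard, Finset.sum_const,
    nsmul_eq_mul, ← mul_assoc] at h1
  exact le_of_mul_le_mul_right (by rw [one_mul]; exact h1) (Nat.cast_pos.2 Nat.card_pos)

theorem muCls_le (K : Cls B) : ((p : ℝ) - 1) * muCls h K ≤ Fintype.card (Cls B) := by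
  have h1 := stab_mul_mu_le h K
  set E := Finset.univ.filter fun k : (ZMod p)ˣ => pw h k K = K with hE
  have h2 : (Finset.univ : Finset (ZMod p)ˣ).card ≤ E.card *
      (Finset.univ : Finset (Cls B)).card := by
    refine Finset.card_le_mul_card_image_of_maps_to (f := fun k => pw h k K)
      (fun k _ => Finset.mem_univ _) _ fun J _ => ?_
    by_cases hJ : ∃ l, pw h l K = J
    · obtain ⟨l, hl⟩ := hJ
      refine Finset.card_le_card_of_injOn (fun k => l⁻¹ * k) (fun k hk => ?_)
        fun a _ b _ hab => mul_left_cancel hab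
      simp only [Finset.coe_filter, Finset.mem_univ, true_and, Set.mem_setOf_eq] at hk
      simp only [hE, Finset.coe_filter, Finset.mem_univ, true_and, Set.mem_setOf_eq]
      rw [pw_mul, hk, ← hl, ← pw_mul, inv_mul_cancel, pw_one]
    · rw [Finset.filter_eq_empty_iff.2 fun k _ hk => hJ ⟨k, hk⟩, Finset.card_empty]
      exact Nat.zero_le _
  rw [Finset.card_univ, Finset.card_univ, ZMod.card_units] at h2
  have h3 : ((p : ℝ) - 1) ≤ (E.card : ℝ) * Fintype.card (Cls B) := by
    rw [← Nat.cast_one, ← Nat.cast_sub hp.out.one_le]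
    exact_mod_cast h2
  calc ((p : ℝ) - 1) * muCls h K ≤ (E.card : ℝ) * Fintype.card (Cls B) * muCls h K :=
        mul_le_mul_of_nonneg_right h3 (mu_nonneg _ _)
    _ = (Fintype.card (Cls B) : ℝ) * ((E.card : ℝ) * muCls h K) := by ring
    _ ≤ _ := mul_le_of_le_one_right (Nat.cast_nonneg _) h1

/-- The powers of a member average to at least `-1 / (p - 1)`. -/
theorem sum_pw_ge (χ : IrrCharacter L) (K : Cls B) :
    -1 ≤ ∑ k : (ZMod p)ˣ, (val χ (pw h k K)).re := by
  haveI := NeZero.of_pos hp.out.pos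
  have hd := deg_pos χ
  have h1 := re_pair_pos χ (n := p) (h.exp _ (rep_mem K)) (one_pow p) (one_pow p) (one_pow p)
  simp only [one_pow, mul_one, one_mul, Finset.sum_const, Finset.card_univ, ZMod.card, nsmul_eq_mul,
    ← Finset.mul_sum, Complex.mul_re, Complex.natCast_re, Complex.natCast_im, zero_mul, sub_zero] at h1
  have h2 := nonneg_of_mul_nonneg_right h1 (Nat.cast_pos.2 hp.out.pos)
  rw [Complex.re_sum, ← Finset.add_sum_erase _ _ (Finset.mem_univ (0 : ZMod p)), ZMod.val_zero,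
    pow_zero, one_eq_deg χ, Complex.ofReal_re] at h2
  have h3 : ∑ k : (ZMod p)ˣ, ((χ : L → ℂ) (rep K ^ (k : ZMod p).val)).re =
      ∑ i ∈ (Finset.univ : Finset (ZMod p)).erase 0, ((χ : L → ℂ) (rep K ^ i.val)).re := by
    refine Finset.sum_bij (fun k _ => (k : ZMod p)) (fun k _ => Finset.mem_erase.2
      ⟨k.ne_zero, Finset.mem_univ _⟩) (fun a _ b _ hab => Units.ext hab) (fun i hi => ?_) fun _ _ => rfl
    exact ⟨Units.mk0 i (Finset.mem_erase.1 hi).1, Finset.mem_univ _, rfl⟩
  simp only [val_pw, ← Finset.sum_div]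
  rw [le_div_iff₀ hd, h3]
  linarith

/-- The bound on the average for `p ≥ 5`. -/
theorem avg_le_large (h5 : 5 ≤ p) {χ : IrrCharacter L} (hχ : χ ∈ principalBlock M L)
    (hne : χ ≠ trivialIrr L) : avg B χ ≤ 1 / 2 := by
  haveI := nonempty_cls h
  set N : ℝ := (p : ℝ) - 1 with hN
  have hN4 : 4 ≤ N := by
    have : (5 : ℝ) ≤ p := by exact_mod_cast h5
    rw [hN]; linarith
  set r : ℝ := (Fintype.card (Cls B) : ℝ) with hr
  have hrp : 0 < r := r_pos h
  have hd := deg_pos χ
  set A : Cls B → ℝ := fun K => (val χ K).re with hA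
  set F := avg B χ with hF
  have hAF : ∑ K, A K = r * F := by
    rw [hF, avg, ← hr]; field_simp; rfl
  have hA1 : ∀ K, A K ≤ 1 := fun K => (re_val_lt h hne K).le
  -- each term
  have hterm : ∀ K : Cls B, muCls h K * A K - (regPart p χ (rep K) (rep K.inv)).re ≤
      muCls h K * (1 + A K - 2 * A K ^ 2) := by
    intro K
    have h1 := regPart_re_ge h (χ := χ) (K := K) (t := 2 * A K ^ 2 - 1) fun b hb => by
      have e : ((χ : L → ℂ) (rep K)).re = A K * ((χ : L → ℂ) 1).re := by
        rw [hA, one_eq_deg χ, Complex.ofReal_re]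
        simp only [re_val]
        field_simp
      have := re_quad χ b (rep K)
        (by rw [Cfsg.Agent.Char.IsClass.eq_of_isConj (irr_classFun χ) hb, e]) e
      rw [one_eq_deg χ, Complex.ofReal_re] at this
      refine this.trans_eq ?_
      rw [← irr_classFun χ (b⁻¹ * rep K) b]
      group
    nlinarith [h1]
  -- average over the powers
  set G : Cls B → ℝ := fun K => (∑ k : (ZMod p)ˣ, A (pw h k K)) / N with hG
  have hNc : (Fintype.card (ZMod p)ˣ : ℝ) = N := by
    rw [ZMod.card_units, hN, Nat.cast_sub hp.out.one_le, Nat.cast_one]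
  have hG1 : ∀ K, G K ≤ 1 := fun K => by
    rw [hG, div_le_one (by linarith), ← hNc]
    calc ∑ k : (ZMod p)ˣ, A (pw h k K) ≤ ∑ _k : (ZMod p)ˣ, (1 : ℝ) :=
          Finset.sum_le_sum fun k _ => hA1 _
      _ = _ := by simp
  have hG2 : ∀ K, -(1 / 2) ≤ G K := fun K => by
    rw [hG, le_div_iff₀ (by linarith)]
    have := sum_pw_ge h χ K
    linarith
  have hinner : ∀ K, ∑ k : (ZMod p)ˣ, (1 + A (pw h k K) - 2 * A (pw h k K) ^ 2) ≤
      N * (1 + G K - 2 * G K ^ 2) := fun K => by
    have h1 := sq_sum_le_card_mul_sum_sq (s := (Finset.univ : Finset (ZMod p)ˣ))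
      (f := fun k => A (pw h k K))
    rw [Finset.card_univ, hNc] at h1
    rw [Finset.sum_sub_distrib, Finset.sum_add_distrib, Finset.sum_const, Finset.card_univ,
      nsmul_one, hNc, ← Finset.mul_sum]
    have e : (∑ k : (ZMod p)ˣ, A (pw h k K)) = N * G K := by rw [hG]; field_simp
    rw [e] at h1 ⊢
    have hN0 : 0 < N := by linarith
    have : N * G K ^ 2 ≤ ∑ k : (ZMod p)ˣ, A (pw h k K) ^ 2 :=
      le_of_mul_le_mul_left (by nlinarith [h1]) hN0
    nlinarith [this]
  have hsum : N * ∑ K, muCls h K * (1 + A K - 2 * A K ^ 2) =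
      ∑ K, muCls h K * ∑ k : (ZMod p)ˣ, (1 + A (pw h k K) - 2 * A (pw h k K) ^ 2) := by
    rw [Finset.sum_congr rfl fun (K : Cls B) _ => Finset.mul_sum _ _ _, Finset.sum_comm, ← hNc]
    rw [Finset.sum_congr rfl fun (k : (ZMod p)ˣ) _ => show
      ∑ K, muCls h K * (1 + A (pw h k K) - 2 * A (pw h k K) ^ 2) =
        ∑ K, muCls h K * (1 + A K - 2 * A K ^ 2) from
      Fintype.sum_equiv (pwEquiv h k) _ _ fun K => by
        show _ = muCls h (pw h k K) * (1 + A (pw h k K) - 2 * A (pw h k K) ^ 2)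
        rw [muCls_pw]]
    rw [Finset.sum_const, Finset.card_univ, nsmul_eq_mul]
  have hGsum : ∑ K, G K = r * F := by
    rw [hG, ← Finset.sum_div, Finset.sum_comm]
    rw [Finset.sum_congr rfl fun (k : (ZMod p)ˣ) _ => show ∑ K, A (pw h k K) = r * F from
      (Fintype.sum_equiv (pwEquiv h k) _ _ fun K => rfl).trans hAF]
    rw [Finset.sum_const, Finset.card_univ, nsmul_eq_mul, hNc]
    field_simp
  have hsq : r * F ^ 2 ≤ ∑ K, G K ^ 2 := by
    have h1 := sq_sum_le_card_mul_sum_sq (s := (Finset.univ : Finset (Cls B))) (f := G)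
    rw [Finset.card_univ, ← hr, hGsum] at h1
    refine le_of_mul_le_mul_left (by nlinarith [h1]) hrp
  have hhG : ∑ K, (1 + G K - 2 * G K ^ 2) ≤ r * (1 + F - 2 * F ^ 2) := by
    rw [Finset.sum_sub_distrib, Finset.sum_add_distrib, Finset.sum_const, Finset.card_univ,
      nsmul_one, ← hr, hGsum, ← Finset.mul_sum]
    nlinarith [hsq]
  have hmain : N * (N * ∑ K, muCls h K * (1 + A K - 2 * A K ^ 2)) ≤
      N * (r * (r * (1 + F - 2 * F ^ 2))) := by
    rw [hsum, Finset.mul_sum]
    calc ∑ K, N * (muCls h K * ∑ k : (ZMod p)ˣ, (1 + A (pw h k K) - 2 * A (pw h k K) ^ 2))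
        ≤ ∑ K, (N * muCls h K) * (N * (1 + G K - 2 * G K ^ 2)) := by
          refine Finset.sum_le_sum fun K _ => ?_
          rw [← mul_assoc]
          exact mul_le_mul_of_nonneg_left (hinner K) (mul_nonneg (by linarith) (mu_nonneg _ _))
      _ ≤ ∑ K, r * (N * (1 + G K - 2 * G K ^ 2)) := by
          refine Finset.sum_le_sum fun K _ => mul_le_mul_of_nonneg_right (muCls_le h K) ?_
          refine mul_nonneg (by linarith) ?_
          nlinarith [hG1 K, hG2 K]
      _ = N * (r * ∑ K, (1 + G K - 2 * G K ^ 2)) := by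
          rw [← Finset.mul_sum, ← Finset.mul_sum]; ring
      _ ≤ _ := mul_le_mul_of_nonneg_left (mul_le_mul_of_nonneg_left hhG hrp.le) (by linarith)
  have hrel := avg_rel_re h hχ
  rw [← hr, ← hF, eq_div_iff (by positivity)] at hrel
  have h4 : F * (1 - F) * r ^ 2 ≤ ∑ K, muCls h K * (1 + A K - 2 * A K ^ 2) :=
    hrel.trans_le (Finset.sum_le_sum fun K _ => hterm K)
  have h6 : N * ∑ K, muCls h K * (1 + A K - 2 * A K ^ 2) ≤ r * (r * (1 + F - 2 * F ^ 2)) :=
    le_of_mul_le_mul_left hmain (by linarith)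
  have h7 : N * (F * (1 - F)) ≤ (1 - F) * (1 + 2 * F) := by
    refine le_of_mul_le_mul_left ?_ (pow_pos hrp 2)
    nlinarith [mul_le_mul_of_nonneg_left h4 (show 0 ≤ N by linarith), h6]
  have hF1 : F < 1 := avg_lt_one h hne
  have h8 : N * F ≤ 1 + 2 * F := le_of_mul_le_mul_left (by nlinarith [h7]) (sub_pos.2 hF1)
  nlinarith [h8, hN4]

theorem absurd_large (h5 : 5 ≤ p) : False := by
  refine absurd_of_bounds h (m := 1 / 4) (Mb := 1 / 2) (fun χ hχ hne => avg_le_large h h5 hχ hne) ?_
    (by norm_num) (by norm_num)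
  have h1 : ∀ K : Cls B, muCls h K ≤ (Fintype.card (Cls B) : ℝ) / 4 := fun K => by
    have h2 := muCls_le h K
    have : (5 : ℝ) ≤ p := by exact_mod_cast h5
    nlinarith [mu_nonneg (p := p) (rep K) (rep K.inv), show muCls h K = mu p (rep K) (rep K.inv) from rfl]
  calc ∑ K : Cls B, muCls h K ≤ ∑ _K : Cls B, (Fintype.card (Cls B) : ℝ) / 4 :=
        Finset.sum_le_sum fun K _ => h1 K
    _ = _ := by rw [Finset.sum_const, Finset.card_univ, nsmul_eq_mul]; ring

/-- The bound on the average for `p = 3`. -/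
theorem avg_le_three (h3 : p = 3) {m : ℝ} (hm : ∀ K : Cls B, muCls h K ≤ m * Fintype.card (Cls B))
    {χ : IrrCharacter L} (hχ : χ ∈ principalBlock M L) (hne : χ ≠ trivialIrr L) : avg B χ ≤ m := by
  haveI := nonempty_cls h
  set r : ℝ := (Fintype.card (Cls B) : ℝ) with hr
  have hrp : 0 < r := r_pos h
  set F := avg B χ with hF
  have hterm : ∀ K : Cls B, muCls h K * (val χ K).re - (regPart p χ (rep K) (rep K.inv)).re ≤
      m * r * (1 - (val χ K).re) := by
    intro K
    have h1 := regPart_re_ge h (χ := χ) (K := K) (t := 2 * (val χ K).re - 1) fun b hb => by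
      have := re_three χ (a := b) (b := rep K) (h3 ▸ pow_p_eq_one h ((rep_Mem K).conj hb.symm))
        (h3 ▸ h.exp _ (rep_mem K))
      rw [Cfsg.Agent.Char.IsClass.eq_of_isConj (irr_classFun χ) hb, one_eq_deg χ,
        Complex.ofReal_re] at this
      refine (le_of_eq ?_).trans (this.trans_eq ?_)
      · rw [re_val]
        have := deg_pos χ
        field_simp
        ring
      · rw [← irr_classFun χ (b⁻¹ * rep K) b]
        group
    have h2 := mul_le_mul_of_nonneg_right (hm K) (sub_nonneg.2 (re_val_lt h hne K).le)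
    nlinarith [h1, h2]
  have hrel := avg_rel_re h hχ
  rw [← hr, ← hF, eq_div_iff (by positivity)] at hrel
  have h4 : F * (1 - F) * r ^ 2 ≤ ∑ K : Cls B, m * r * (1 - (val χ K).re) :=
    hrel.trans_le (Finset.sum_le_sum fun K _ => hterm K)
  have hAF : ∑ K : Cls B, (val χ K).re = r * F := by rw [hF, avg, ← hr]; field_simp
  rw [← Finset.mul_sum, Finset.sum_sub_distrib, Finset.sum_const, Finset.card_univ, nsmul_one,
    ← hr, hAF] at h4
  refine le_of_mul_le_mul_right ?_ (mul_pos (pow_pos hrp 2) (sub_pos.2 (avg_lt_one h hne)))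
  nlinarith [h4]

omit h in
theorem two_re_int {χ : IrrCharacter L} {u : L} (hu : u ^ 3 = 1) :
    ∃ z : ℤ, 2 * ((χ : L → ℂ) u).re = z := by
  obtain ⟨n, ρ, -, hχ, -, -⟩ := Cfsg.Agent.Char.IsIrr.exists_rep χ.2
  obtain ⟨b, w, -, hw, hk⟩ := Cfsg.Agent.Char.exists_rep_eigenbasis ρ u
  have h1 := hk 1
  rw [pow_one] at h1
  have hw' : ∀ i, ∃ z : ℤ, 2 * (w i).re = z := fun i => by
    have h3 : w i ^ 3 = 1 := by
      obtain ⟨q, hq⟩ := orderOf_dvd_of_pow_eq_one hu
      rw [hq, pow_mul, hw i, one_pow]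
    by_cases h1 : w i = 1
    · exact ⟨2, by rw [h1]; norm_num⟩
    · refine ⟨-1, ?_⟩
      have h4 : w i ^ 2 + w i + 1 = 0 := by
        refine (mul_eq_zero.1 (?_ : (w i - 1) * (w i ^ 2 + w i + 1) = 0)).resolve_left (sub_ne_zero.2 h1)
        linear_combination h3
      have hn : ‖w i‖ = 1 := Complex.norm_eq_one_of_pow_eq_one h3 (by norm_num)
      have h5 := congrArg (fun t => conj (w i) * t) h4
      have h6 : conj (w i) * w i = 1 := by
        rw [← Complex.normSq_eq_conj_mul_self, Complex.normSq_eq_norm_sq, hn]; norm_num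
      have h7 : w i + 1 + conj (w i) = 0 := by linear_combination h5 - (w i + 1) * h6
      have := congrArg Complex.re h7
      simp at this
      push_cast
      linarith
  choose z hz using hw'
  refine ⟨∑ i, z i, ?_⟩
  rw [← hχ, h1, Complex.re_sum, Finset.mul_sum, Int.cast_sum]
  exact Finset.sum_congr rfl fun i _ => by simpa using hz i

/-- A single class. -/
theorem absurd_one (h3 : p = 3) (hr : Fintype.card (Cls B) = 1) : False := by
  haveI := nonempty_cls h
  obtain ⟨K, hK⟩ := Fintype.card_eq_one_iff.1 hr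
  have hreal : ∀ χ : IrrCharacter L, conj ((χ : L → ℂ) (rep K)) = (χ : L → ℂ) (rep K) := fun χ => by
    rw [← value_inv, hK K.inv]
  have hmu : muCls h K ≤ 1 / 2 := by
    have h1 := muCls_le h K
    rw [hr, show (p : ℝ) = 3 by exact_mod_cast h3] at h1
    norm_num at h1
    linarith
  have hM : ∀ χ ∈ principalBlock M L, χ ≠ trivialIrr L → avg B χ ≤ muCls h K := fun χ hχ hne =>
    avg_le_three h h3 (fun J => by rw [hK J, hr, Nat.cast_one, mul_one]) hχ hne
  obtain ⟨e1, e2, e3⟩ := moments h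
  set S := Finset.univ.filter (fun χ : IrrCharacter L => χ ∈ principalBlock M L) with hS
  have hT : trivialIrr L ∈ S := Finset.mem_filter.2 ⟨Finset.mem_univ _, trivial_mem h⟩
  have hsumK : ∑ J : Cls B, muCls h J = muCls h K := by
    rw [Finset.sum_eq_single K (fun J _ hJ => absurd (hK J) hJ) fun hn => absurd (Finset.mem_univ K) hn]
  rw [hr, Nat.cast_one, div_one] at e2
  rw [hsumK, hr, Nat.cast_one, one_pow, div_one, div_one, ← e2] at e3
  set β := 1 - muCls h K with hβ
  have h0 : ∑ χ ∈ S, deg χ ^ 2 * avg B χ ^ 2 * (β - avg B χ) = 0 := by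
    rw [Finset.sum_congr rfl fun χ _ => show deg χ ^ 2 * avg B χ ^ 2 * (β - avg B χ) =
      deg χ ^ 2 * avg B χ ^ 2 * β - deg χ ^ 2 * avg B χ ^ 3 by ring,
      Finset.sum_sub_distrib, ← Finset.sum_mul, e3, sub_self]
  rw [← Finset.add_sum_erase _ _ hT, avg_trivial, deg_trivial] at h0
  obtain ⟨χ₀, hχ₀, hneg⟩ : ∃ χ ∈ S.erase (trivialIrr L), avg B χ < 0 := by
    by_contra hall
    push Not at hall
    rw [← Finset.add_sum_erase _ _ hT, avg_trivial, deg_trivial] at e1
    have := Finset.sum_nonneg fun χ hχ => mul_nonneg (sq_nonneg (deg χ)) (hall χ hχ)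
    linarith
  have hnn : ∀ χ ∈ S.erase (trivialIrr L), 0 ≤ deg χ ^ 2 * avg B χ ^ 2 * (β - avg B χ) := fun χ hχ =>
    mul_nonneg (mul_nonneg (sq_nonneg _) (sq_nonneg _)) (by
      have := hM χ (Finset.mem_filter.1 (Finset.mem_of_mem_erase hχ)).2 (Finset.ne_of_mem_erase hχ)
      linarith)
  have hge := Finset.single_le_sum hnn hχ₀
  -- the value is a nonzero integer
  have hz : ((χ₀ : L → ℂ) (rep K)).re = deg χ₀ * avg B χ₀ := by
    rw [avg, hr, Nat.cast_one, div_one, Finset.sum_eq_single K (fun J _ hJ => absurd (hK J) hJ)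
      fun hn => absurd (Finset.mem_univ K) hn, re_val]
    have := deg_pos χ₀
    field_simp
  obtain ⟨z, hz2⟩ := two_re_int (χ := χ₀) (u := rep K) (h3 ▸ h.exp _ (rep_mem K))
  have hre : (χ₀ : L → ℂ) (rep K) = (((z : ℚ) / 2 : ℚ) : ℂ) := by
    have hi := congrArg Complex.im (hreal χ₀)
    rw [Complex.conj_im] at hi
    apply Complex.ext
    · push_cast
      simp
      linarith
    · push_cast
      simp
      linarith
  obtain ⟨w, hw⟩ := Cfsg.Agent.Char.int_of_isIntegral_rat (hre ▸ irr_isIntegral χ₀ (rep K))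
  have hw' : ((χ₀ : L → ℂ) (rep K)).re = (w : ℝ) := by rw [hre, hw, Complex.intCast_re]
  have hwne : w ≠ 0 := fun e => by
    rw [hw', e, Int.cast_zero] at hz
    rcases mul_eq_zero.1 hz.symm with h4 | h4
    · exact (deg_pos χ₀).ne' h4
    · exact hneg.ne h4
  have hw1 : (1 : ℝ) ≤ deg χ₀ ^ 2 * avg B χ₀ ^ 2 := by
    rw [← mul_pow, ← hz, hw']
    have : (1 : ℤ) ≤ w ^ 2 := lt_of_le_of_ne (sq_nonneg w) (Ne.symm (pow_ne_zero 2 hwne))
    exact_mod_cast this
  have h5 : β - avg B χ₀ ≤ deg χ₀ ^ 2 * avg B χ₀ ^ 2 * (β - avg B χ₀) :=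
    le_mul_of_one_le_left (by linarith) hw1
  linarith

/-- Two classes inverse to each other. -/
theorem absurd_two (K : Cls B) (hne : K.inv ≠ K) (hr : Fintype.card (Cls B) = 2) : False := by
  haveI := nonempty_cls h
  have hall : ∀ J : Cls B, J = K ∨ J = K.inv := by
    intro J
    by_contra hcon
    push Not at hcon
    have : ({J, K, K.inv} : Finset (Cls B)).card ≤ 2 := hr ▸ Finset.card_le_univ _
    rw [Finset.card_insert_of_notMem (by simp [hcon.1, hcon.2]),
      Finset.card_insert_of_notMem (by simp [hne.symm]), Finset.card_singleton] at this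
    omega
  have huniv : (Finset.univ : Finset (Cls B)) = {K, K.inv} := by
    ext J; simpa using hall J
  have hA : ∀ χ ∈ principalBlock M L, χ ≠ trivialIrr L → avg B χ ≤ 0 := by
    intro χ hχ hχne
    have h1 := val_mul h hχ (rep_Mem K) (rep_Mem K)
    rw [regPart_eq_zero h (fun e => hne e.symm), add_zero, huniv, Finset.sum_pair hne.symm, val_inv] at h1
    have hs := share_sum h (rep_Mem K) (rep_Mem K)
    rw [mu_eq_zero h (fun e => hne e.symm), add_zero, huniv, Finset.sum_pair hne.symm] at hs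
    set n := share p (rep K) (rep K) (K : ConjClasses L)
    set n' := share p (rep K) (rep K) (K.inv : ConjClasses L)
    have e1 := congrArg Complex.re h1
    have e2 := congrArg Complex.im h1
    rw [show (χ : L → ℂ) (rep K) / (χ : L → ℂ) 1 = val χ K from rfl] at e1 e2
    simp only [Complex.add_re, Complex.add_im, Complex.mul_re, Complex.mul_im, Complex.ofReal_re,
      Complex.ofReal_im, Complex.conj_re, Complex.conj_im, zero_mul, sub_zero, add_zero] at e1 e2
    have hav : avg B χ = (val χ K).re := by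
      rw [avg, hr, huniv, Finset.sum_pair hne.symm, val_inv, Complex.conj_re]
      push_cast; ring
    rw [hav]
    have hlt := re_val_lt h hχne K
    rw [eq_sub_of_add_eq hs] at e1
    nlinarith [e1, mul_self_nonneg (val χ K).im]
  refine absurd_of_bounds h (m := 1 / 2) (Mb := 0) hA ?_ (by norm_num) (by norm_num)
  calc ∑ J : Cls B, muCls h J ≤ ∑ _J : Cls B, (1 : ℝ) := Finset.sum_le_sum fun J _ => mu_le_one _ _
    _ = _ := by rw [Finset.sum_const, Finset.card_univ, nsmul_one, hr]; norm_num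

theorem absurd_three (h3 : p = 3) : False := by
  haveI := nonempty_cls h
  by_cases hsmall : ∀ K : Cls B, muCls h K ≤ 1 / 3 * Fintype.card (Cls B)
  · refine absurd_of_bounds h (m := 1 / 3) (Mb := 1 / 3)
      (fun χ hχ hne => avg_le_three h h3 hsmall hχ hne) ?_ (by norm_num) (by norm_num)
    calc ∑ K : Cls B, muCls h K ≤ ∑ _K : Cls B, 1 / 3 * (Fintype.card (Cls B) : ℝ) :=
          Finset.sum_le_sum fun K _ => hsmall K
      _ = _ := by rw [Finset.sum_const, Finset.card_univ, nsmul_eq_mul]; ring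
  push Not at hsmall
  obtain ⟨K, hK⟩ := hsmall
  have hr3 : Fintype.card (Cls B) < 3 := by
    have : (Fintype.card (Cls B) : ℝ) < 3 := by
      have := mu_le_one (p := p) (rep K) (rep K.inv)
      have e : muCls h K = mu p (rep K) (rep K.inv) := rfl
      linarith
    exact_mod_cast this
  have hr0 := Fintype.card_pos (α := Cls B)
  rcases (show Fintype.card (Cls B) = 1 ∨ Fintype.card (Cls B) = 2 by omega) with hr | hr
  · exact absurd_one h h3 hr
  by_cases hinv : K.inv = K
  · -- a real class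
    have hE : ({1, -1} : Finset (ZMod p)ˣ) ⊆ Finset.univ.filter fun k => pw h k K = K := by
      intro k hk
      refine Finset.mem_filter.2 ⟨Finset.mem_univ _, ?_⟩
      rcases Finset.mem_insert.1 hk with rfl | hk
      · exact pw_one h K
      rw [Finset.mem_singleton] at hk
      subst hk
      refine (cls_eq_iff (rep_pow_Mem h _ K) _).2 ?_
      have h4 := rep_inv K
      rw [hinv] at h4
      refine IsConj.trans ?_ h4
      subst h3
      rw [show ((-1 : (ZMod 3)ˣ) : ZMod 3).val = 2 from rfl,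
        eq_inv_of_mul_eq_one_left (show rep K ^ 2 * rep K = 1 by rw [← pow_succ]; exact h.exp _ (rep_mem K))]
    have h1 := Finset.card_le_card hE
    rw [Finset.card_pair (ne_of_apply_ne Units.val (by subst h3; rw [Units.val_neg, Units.val_one]; exact one_ne_neg_one_three))] at h1
    have h2 := stab_mul_mu_le h K
    have h5 : (2 : ℝ) ≤ ((Finset.univ.filter fun k => pw h k K = K).card : ℝ) := by exact_mod_cast h1
    rw [hr] at hK
    push_cast at hK
    have e : 0 ≤ muCls h K := mu_nonneg _ _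
    nlinarith [mul_le_mul_of_nonneg_right h5 e]
  · exact absurd_two h K hinv hr

/-- No data for an odd prime. -/
theorem odd_absurd : False := by
  by_cases h3 : p = 3
  · exact absurd_three h h3
  · refine absurd_large h ?_
    have := hp.out.two_le
    have := h.odd
    have h4 : p ≠ 4 := fun e => by have := hp.out; rw [e] at this; norm_num at this
    omega

end Cfsg.Agent.Fus.PFusionControl
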