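import Cfsg.Agent.Lib.Char.ModularRank
import Cfsg.Agent.Lib.Block.ClassMul

/-!
# Inequalities between the values of an irreducible character

An irreducible character is positive definite.  Two consequences bound its value at `a⁻¹ * b` by
its values at `a` and at `b`.
-/

set_option autoImplicit false
set_option linter.unusedSectionVars false

open scoped ComplexConjugate
open Cfsg Cfsg.Agent.Block

namespace Cfsg.Agent.Fus.PFusionControl

universe u v

variable {G : Type u} [Group G] [Finite G]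

/-- The character as a convolution of itself with itself. -/
theorem char_conv [Fintype G] (χ : IrrCharacter G) (x y : G) :
    ∑ t : G, conj ((χ : G → ℂ) (t * x)) * (χ : G → ℂ) (t * y) =
      (Nat.card G : ℂ) / (χ : G → ℂ) 1 * (χ : G → ℂ) (x⁻¹ * y) := by
  classical
  have h1 := Cfsg.Agent.Char.CycMod.sum_blockCoeff_mul_irr {χ} χ (x⁻¹ * y)
  rw [if_pos (Set.mem_singleton χ)] at h1
  have hb : ∀ h, blockCoeff ({χ} : Set (IrrCharacter G)) h =
      (Nat.card G : ℂ)⁻¹ * ((χ : G → ℂ) 1 * conj ((χ : G → ℂ) h)) := fun h => by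
    rw [blockCoeff, finsum_mem_singleton]
  simp only [hb] at h1
  have hG : (Nat.card G : ℂ) ≠ 0 := Nat.cast_ne_zero.2 Nat.card_pos.ne'
  have hd := irr_one_ne_zero χ
  have h2 : ∑ t : G, conj ((χ : G → ℂ) (t * x)) * (χ : G → ℂ) (t * y) =
      ∑ h : G, conj ((χ : G → ℂ) h) * (χ : G → ℂ) (h * (x⁻¹ * y)) :=
    Fintype.sum_equiv (Equiv.mulRight x) _ _ fun t => by simp [mul_assoc]
  rw [h2, ← h1, Finset.mul_sum]
  refine Finset.sum_congr rfl fun h _ => ?_
  field_simp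

/-- An irreducible character is positive definite. -/
theorem re_pos [Fintype G] {ι : Type v} [Fintype ι] (χ : IrrCharacter G) (c : ι → ℂ) (v : ι → G) :
    0 ≤ (∑ i, ∑ j, conj (c i) * c j * (χ : G → ℂ) ((v i)⁻¹ * v j)).re := by
  classical
  have hG : (Nat.card G : ℂ) ≠ 0 := Nat.cast_ne_zero.2 Nat.card_pos.ne'
  set d : ℕ := charDegree (χ : G → ℂ) with hd
  have hd1 : (χ : G → ℂ) 1 = (d : ℂ) := charDeg_spec' χ
  have hd0 : (d : ℂ) ≠ 0 := hd1 ▸ irr_one_ne_zero χ
  have key : ∑ i, ∑ j, conj (c i) * c j * (χ : G → ℂ) ((v i)⁻¹ * v j) =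
      ((d : ℂ) / (Nat.card G : ℂ)) *
        ∑ t : G, conj (∑ i, c i * (χ : G → ℂ) (t * v i)) * (∑ j, c j * (χ : G → ℂ) (t * v j)) := by
    simp only [map_sum, map_mul, Finset.sum_mul]
    simp only [Finset.mul_sum]
    rw [Finset.sum_comm (s := (Finset.univ : Finset G))]
    refine Finset.sum_congr rfl fun i _ => ?_
    rw [Finset.sum_comm (s := (Finset.univ : Finset G))]
    refine Finset.sum_congr rfl fun j _ => ?_
    rw [Finset.sum_congr rfl (g := fun t : G => (d : ℂ) / (Nat.card G : ℂ) * (conj (c i) * c j) *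
      (conj ((χ : G → ℂ) (t * v i)) * (χ : G → ℂ) (t * v j))) fun t _ => by ring,
      ← Finset.mul_sum, char_conv, hd1]
    field_simp
  rw [key]
  have h2 : ∀ z : ℂ, conj z * z = ((Complex.normSq z : ℝ) : ℂ) := fun z => by
    rw [Complex.normSq_eq_conj_mul_self]
  simp only [h2, ← Complex.ofReal_sum]
  rw [show (d : ℂ) / (Nat.card G : ℂ) = (((d : ℝ) / (Nat.card G : ℝ) : ℝ) : ℂ) by push_cast; rfl,
    ← Complex.ofReal_mul, Complex.ofReal_re]
  exact mul_nonneg (div_nonneg (Nat.cast_nonneg _) (Nat.cast_nonneg _))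
    (Finset.sum_nonneg fun t _ => Complex.normSq_nonneg _)

theorem re_value_inv (χ : IrrCharacter G) (g : G) :
    ((χ : G → ℂ) g⁻¹).re = ((χ : G → ℂ) g).re := by
  rw [irr_apply_inv, Complex.conj_re]

/-- The bound from the three points `1`, `a`, `b`. -/
theorem re_quad (χ : IrrCharacter G) (a b : G) {A : ℝ}
    (ha : ((χ : G → ℂ) a).re = A * ((χ : G → ℂ) 1).re)
    (hb : ((χ : G → ℂ) b).re = A * ((χ : G → ℂ) 1).re) :
    (2 * A ^ 2 - 1) * ((χ : G → ℂ) 1).re ≤ ((χ : G → ℂ) (a⁻¹ * b)).re := by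
  classical
  cases nonempty_fintype G
  have h := re_pos χ ![((-2 * A : ℝ) : ℂ), 1, 1] ![1, a, b]
  have hba : ((χ : G → ℂ) (b⁻¹ * a)).re = ((χ : G → ℂ) (a⁻¹ * b)).re := by
    rw [← re_value_inv χ (b⁻¹ * a), mul_inv_rev, inv_inv]
  simp [Fin.sum_univ_three, Complex.add_re, Complex.mul_re, ha, hb, hba, re_value_inv] at h
  nlinarith [h]

/-- A double sum over two cyclic sets of pair values. -/
theorem re_pair_pos (χ : IrrCharacter G) {n : ℕ} [NeZero n] {a b : G} (ha : a ^ n = 1) (hb : b ^ n = 1)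
    {u v : ℂ} (hu : u ^ n = 1) (hv : v ^ n = 1) :
    0 ≤ (∑ i : ZMod n, ∑ j : ZMod n,
      u ^ i.val * v ^ j.val * (χ : G → ℂ) (a ^ i.val * b ^ j.val)).re := by
  classical
  cases nonempty_fintype G
  have hadd : ∀ {M : Type u} [Monoid M] {x : M}, x ^ n = 1 → ∀ i j : ZMod n,
      x ^ (i + j).val = x ^ i.val * x ^ j.val := fun {M} _ {x} hx i j => by
    rw [ZMod.val_add, ← pow_eq_pow_mod _ hx, pow_add]
  have hca : ∀ {x : ℂ}, x ^ n = 1 → ∀ i : ZMod n, conj (x ^ i.val) * x ^ i.val = 1 := fun {x} hx i => by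
    rw [← Complex.normSq_eq_conj_mul_self, Complex.normSq_eq_norm_sq, norm_pow,
      Complex.norm_eq_one_of_pow_eq_one hx (NeZero.ne n), one_pow, one_pow, Complex.ofReal_one]
  have hcadd : ∀ {x : ℂ}, x ^ n = 1 → ∀ i j : ZMod n, x ^ (i + j).val = x ^ i.val * x ^ j.val :=
    fun {x} hx i j => by rw [ZMod.val_add, ← pow_eq_pow_mod _ hx, pow_add]
  have h := re_pos χ (fun k : ZMod n × ZMod n => u ^ k.1.val * v ^ k.2.val)
    (fun k => a ^ k.1.val * b ^ k.2.val)
  have key : ∀ k : ZMod n × ZMod n, ∑ l : ZMod n × ZMod n,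
      conj (u ^ k.1.val * v ^ k.2.val) * (u ^ l.1.val * v ^ l.2.val) *
        (χ : G → ℂ) ((a ^ k.1.val * b ^ k.2.val)⁻¹ * (a ^ l.1.val * b ^ l.2.val)) =
      ∑ l : ZMod n × ZMod n, u ^ l.1.val * v ^ l.2.val * (χ : G → ℂ) (a ^ l.1.val * b ^ l.2.val) := by
    intro k
    refine (Fintype.sum_equiv (Equiv.addLeft k) _ _ fun l => ?_).symm
    simp only [Equiv.coe_addLeft, Prod.fst_add, Prod.snd_add, hadd ha, hadd hb, hcadd hu, hcadd hv]
    rw [show conj (u ^ k.1.val * v ^ k.2.val) * ((u ^ k.1.val * u ^ l.1.val) *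
        (v ^ k.2.val * v ^ l.2.val)) = (conj (u ^ k.1.val) * u ^ k.1.val) *
          (conj (v ^ k.2.val) * v ^ k.2.val) * (u ^ l.1.val * v ^ l.2.val) by rw [map_mul]; ring,
      hca hu, hca hv, one_mul, one_mul,
      ← irr_classFun χ ((a ^ k.1.val * b ^ k.2.val)⁻¹ *
        ((a ^ k.1.val * a ^ l.1.val) * (b ^ k.2.val * b ^ l.2.val))) (b ^ k.2.val)]
    congr 2
    rw [show b ^ k.2.val * b ^ l.2.val = b ^ l.2.val * b ^ k.2.val by rw [← pow_add, ← pow_add, add_comm]]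
    group
  rw [Finset.sum_congr rfl fun k _ => key k, Finset.sum_const, Finset.card_univ,
    nsmul_eq_mul, Fintype.sum_prod_type, Complex.mul_re] at h
  simp only [Complex.natCast_re, Complex.natCast_im, zero_mul, sub_zero] at h
  exact nonneg_of_mul_nonneg_right h (Nat.cast_pos.2 Fintype.card_pos)

/-- Two elements of order dividing three. -/
theorem re_three (χ : IrrCharacter G) {a b : G} (ha : a ^ 3 = 1) (hb : b ^ 3 = 1) :
    ((χ : G → ℂ) a).re + ((χ : G → ℂ) b).re - ((χ : G → ℂ) 1).re ≤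
      ((χ : G → ℂ) (a⁻¹ * b)).re := by
  classical
  set w : ℂ := ⟨-(1 / 2), Real.sqrt 3 / 2⟩ with hw
  have hwr : w.re = -(1 / 2) := by rw [hw]
  have hwi : w.im = Real.sqrt 3 / 2 := by rw [hw]
  clear_value w
  have hs : Real.sqrt 3 * Real.sqrt 3 = 3 := Real.mul_self_sqrt (by norm_num)
  have hw2 : w * w = conj w := by
    apply Complex.ext <;>
      simp only [Complex.mul_re, Complex.mul_im, Complex.conj_re, Complex.conj_im, hwr, hwi] <;> linarith
  have hw3 : w ^ 3 = 1 := by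
    rw [pow_succ, pow_two, hw2, ← Complex.normSq_eq_conj_mul_self, Complex.normSq_apply, hwr, hwi,
      ← Complex.ofReal_one]
    congr 1
    linarith
  have hv3 : (conj w) ^ 3 = 1 := by rw [← map_pow, hw3, map_one]
  have hv2 : conj w * conj w = w := by rw [← map_mul, hw2, Complex.conj_conj]
  have h11 := re_pair_pos χ ha hb hw3 hw3
  have h22 := re_pair_pos χ ha hb hv3 hv3
  have h12 := re_pair_pos χ ha hb hw3 hv3
  have h21 := re_pair_pos χ ha hb hv3 hw3
  have hinv : ∀ {x : G}, x ^ 3 = 1 → x ^ 2 = x⁻¹ := fun {x} hx =>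
    eq_inv_of_mul_eq_one_left (by rw [← pow_succ, hx])
  have ea : ((χ : G → ℂ) a⁻¹).re = ((χ : G → ℂ) a).re := re_value_inv χ a
  have eb : ((χ : G → ℂ) b⁻¹).re = ((χ : G → ℂ) b).re := re_value_inv χ b
  have eab : ((χ : G → ℂ) (a * b⁻¹)).re = ((χ : G → ℂ) (a⁻¹ * b)).re := by
    rw [← re_value_inv χ (a * b⁻¹), ← irr_classFun χ (a * b⁻¹)⁻¹ a⁻¹]
    group
  have hsum : ∀ f : ZMod 3 → ℂ, ∑ i : ZMod 3, f i = f 0 + f 1 + f 2 := fun f => Fin.sum_univ_three f
  simp only [hsum, show (0 : ZMod 3).val = 0 from rfl, show (1 : ZMod 3).val = 1 from rfl,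
    show (2 : ZMod 3).val = 2 from rfl, pow_zero, pow_one, one_mul, mul_one, hinv ha, hinv hb,
    pow_two, hw2, hv2] at h11 h22 h12 h21
  simp only [Complex.add_re, Complex.mul_re, Complex.mul_im, Complex.one_re, Complex.one_im,
    Complex.conj_re, Complex.conj_im, ea, eb, eab] at h11 h22 h12 h21
  simp only [hwr, hwi] at h11 h22 h12 h21
  have eab' : ((χ : G → ℂ) (a⁻¹ * b⁻¹)).re = ((χ : G → ℂ) (a * b)).re := by
    rw [← re_value_inv χ (a⁻¹ * b⁻¹), ← irr_classFun χ (a * b) b]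
    group
  have hq : Real.sqrt 3 / 2 * (Real.sqrt 3 / 2) = 3 / 4 := by linarith
  simp only [mul_neg, neg_mul, neg_neg, hq, eab'] at h11 h22 h12 h21
  linarith

end Cfsg.Agent.Fus.PFusionControl
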