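import Cfsg.Agent.Lib.Fus.PFusionControl.Setting
import Cfsg.Agent.Lib.Transfer.CentralFour.Pair
import Cfsg.Agent.Lib.Fus.PFusionControl.Odd
import Cfsg.Agent.Lib.Char.ModP

/-!
# A normal simple subgroup carrying the hypotheses
-/

set_option autoImplicit false
set_option linter.unusedSectionVars false
set_option linter.style.haveILetI false

namespace Cfsg.Agent.Fus.PFusionControl

open Subgroup Cfsg

universe u

variable {G : Type u} [Group G] [Finite G] {p : ℕ} [hp : Fact p.Prime] {P : Sylow p G}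

theorem core_normal_eq_bot (hcore : Cfsg.pPrimeCore p G = ⊥) (N : Subgroup G) [N.Normal] :
    Cfsg.pPrimeCore p ↥N = ⊥ := by
  rw [← Subgroup.map_eq_bot_iff_of_injective _ (f := N.subtype) Subtype.val_injective,
    Grp.pPrimeCore_map_eq N, hcore, bot_inf_eq]

variable (h : Hyp p P)
include h

theorem npc_of_order {x : G} (hx : orderOf x = p) : Npc p (centralizer ({x} : Set G)) := by
  obtain ⟨S, hS⟩ := (IsPGroup.of_card (n := 1) (by rw [Nat.card_zpowers, hx, pow_one]) :
    IsPGroup p (zpowers x)).exists_le_sylow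
  obtain ⟨t, ht⟩ := MulAction.exists_smul_eq G S P
  have htP : t * x * t⁻¹ ∈ (P : Subgroup G) := by
    rw [← ht, Sylow.coe_subgroup_smul, ← Grp.map_conj_eq_smul]
    exact ⟨x, hS (mem_zpowers x), rfl⟩
  obtain ⟨K, hKn, hK, k, hk⟩ := npc_of_hasNormalPComplement
    (h.npc _ htP (by rw [← MulAut.conj_apply, MulEquiv.orderOf_eq, hx]))
  have e : (centralizer ({x} : Set G)).map (MulAut.conj t).toMonoidHom =
      centralizer ({t * x * t⁻¹} : Set G) := by
    refine le_antisymm ?_ fun y hy => ⟨t⁻¹ * y * t, mem_centralizer_singleton_iff.2 ?_, by simp [mul_assoc]⟩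
    · rintro _ ⟨y, hy, rfl⟩
      refine mem_centralizer_singleton_iff.2 ?_
      show t * y * t⁻¹ * (t * x * t⁻¹) = t * x * t⁻¹ * (t * y * t⁻¹)
      rw [show t * y * t⁻¹ * (t * x * t⁻¹) = t * (y * x) * t⁻¹ by group,
        mem_centralizer_singleton_iff.1 hy]
      group
    · calc t⁻¹ * y * t * x = t⁻¹ * (y * (t * x * t⁻¹)) * t := by group
        _ = t⁻¹ * (t * x * t⁻¹ * y) * t := by rw [mem_centralizer_singleton_iff.1 hy]
        _ = _ := by group
  let φ : ↥(centralizer ({x} : Set G)) ≃* ↥(centralizer ({t * x * t⁻¹} : Set G)) :=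
    ((centralizer ({x} : Set G)).equivMapOfInjective _ (MulAut.conj t).injective).trans
      (MulEquiv.subgroupCongr e)
  refine ⟨K.map φ.symm.toMonoidHom, hKn.map _ φ.symm.surjective, ?_, k, ?_⟩
  · rwa [Subgroup.card_map_of_injective φ.symm.injective]
  · rw [← hk]
    exact Subgroup.index_map_equiv K φ.symm

theorem orderOf_omega {x : G} (hx : x ∈ omega P) (h1 : x ≠ 1) : orderOf x = p :=
  orderOf_eq_prime hx.2.2 h1

theorem omega_inf_ne_bot {N : Subgroup G} (hN : N.Normal) (hd : p ∣ Nat.card N) :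
    omega P ⊓ N ≠ ⊥ := by
  haveI : Group.IsNilpotent ↥(P : Subgroup G) := P.isPGroup'.isNilpotent
  haveI := hN
  have hne : N.subgroupOf (P : Subgroup G) ≠ ⊥ := by
    intro hb
    rw [Subgroup.subgroupOf_eq_bot, disjoint_iff, inf_comm] at hb
    have h1 := Grp.sylow_inf_normal_relIndex P N
    rw [← Subgroup.inf_relIndex_right, hb, Subgroup.relIndex_bot_left] at h1
    exact h1 hd
  have hI := Grp.inf_center_ne_bot (N.subgroupOf (P : Subgroup G)) hne
  obtain ⟨⟨z, hz⟩, hz1⟩ := (Subgroup.ne_bot_iff_exists_ne_one).1 hI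
  obtain ⟨k, hk⟩ := P.isPGroup'.to_le (le_refl _) ⟨(z : G), z.2⟩
  have hpd : p ∣ orderOf z := by
    obtain ⟨i, hi⟩ := IsPGroup.iff_orderOf.1 P.isPGroup' z
    rcases Nat.eq_zero_or_pos i with rfl | hi0
    · rw [pow_zero, orderOf_eq_one_iff] at hi
      exact absurd (Subtype.ext hi) hz1
    · rw [hi]; exact dvd_pow_self p hi0.ne'
  set w := z ^ (orderOf z / p) with hw
  have hwo : orderOf w = p := orderOf_pow_orderOf_div (orderOf_pos z).ne' hpd
  have hwN : w ∈ N.subgroupOf (P : Subgroup G) ⊓ center ↥(P : Subgroup G) := pow_mem hz _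
  intro hb
  have hmem : (w : G) ∈ omega P ⊓ N := ⟨⟨w.2, fun y hy =>
    congrArg Subtype.val (mem_center_iff.1 hwN.2 ⟨y, hy⟩), by
      rw [← Subgroup.coe_pow, orderOf_dvd_iff_pow_eq_one.1 (dvd_of_eq hwo), Subgroup.coe_one]⟩, hwN.1⟩
  rw [hb, mem_bot, OneMemClass.coe_eq_one] at hmem
  rw [hmem, orderOf_one] at hwo
  exact hp.out.one_lt.ne hwo

theorem pCore_eq_bot : Cfsg.pCore p G = ⊥ := by
  haveI hQn : (Cfsg.pCore p G).Normal := Grp.pCore_isNormal
  by_contra hQ
  obtain ⟨k, hk⟩ := IsPGroup.iff_card.1 (Grp.pCore_isPGroup (p := p) (G := G))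
  have hd : p ∣ Nat.card (Cfsg.pCore p G) := by
    rw [hk]
    refine dvd_pow_self p ?_
    rintro rfl
    exact hQ (Subgroup.eq_bot_of_card_eq _ (by rw [hk, pow_zero]))
  set Z := omega P ⊓ Cfsg.pCore p G with hZ
  have hZne := omega_inf_ne_bot h hQn hd
  haveI hZn : Z.Normal := ⟨fun z hz g =>
    have h1 := hQn.conj_mem z hz.2 g
    ⟨omega_closed h hz.1 (Grp.pCore_le_sylow P h1), h1⟩⟩
  obtain ⟨⟨z, hz⟩, hz1⟩ := (Subgroup.ne_bot_iff_exists_ne_one).1 hZne
  set C := centralizer (Z : Set G) with hC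
  haveI : C.Normal := Subgroup.normal_centralizer
  have hPC : (P : Subgroup G) ≤ C := fun y hy => mem_centralizer_iff.2 fun w hw => (omega_comm hw.1 hy).symm
  have hCz : C ≤ centralizer ({z} : Set G) := centralizer_le (Set.singleton_subset_iff.2 hz)
  have hCp : IsPGroup p ↥C := isPGroup_of_npc
    (npc_of_order h (orderOf_omega h hz.1 fun e => hz1 (Subtype.ext e))) hCz (core_normal_eq_bot h.core C)
  exact h.nn (P.3 hCp hPC ▸ inferInstance)

/-- A nontrivial normal subgroup has order divisible by `p`. -/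
theorem dvd_of_normal {N : Subgroup G} (hN : N.Normal) (hne : N ≠ ⊥) : p ∣ Nat.card N := by
  by_contra hd
  refine hne (eq_bot_iff.2 ?_)
  rw [← h.core]
  exact Grp.le_pPrimeCore hN (hp.out.coprime_iff_not_dvd.2 hd).symm

theorem centralizer_eq_bot {N : Subgroup G} [N.Normal] (hd : p ∣ Nat.card N) :
    centralizer (N : Set G) = ⊥ := by
  haveI : (centralizer (N : Set G)).Normal := Subgroup.normal_centralizer
  obtain ⟨⟨x, hxN⟩, hx⟩ := exists_prime_orderOf_dvd_card' p hd
  rw [Subgroup.orderOf_mk] at hx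
  have hp' := isPGroup_of_npc (npc_of_order h hx)
    (centralizer_le (Set.singleton_subset_iff.2 hxN)) (core_normal_eq_bot h.core (centralizer (N : Set G)))
  rw [eq_bot_iff, ← pCore_eq_bot h]
  exact Grp.le_pCore inferInstance hp'

theorem exists_simple : ∃ L : Subgroup G, L.Normal ∧ IsSimpleGroup ↥L ∧ ¬ IsMulCommutative ↥L ∧
    p ∣ Nat.card L ∧ centralizer (L : Set G) = ⊥ := by
  classical
  have hne : (⊤ : Subgroup G) ≠ ⊥ := fun e => h.nn (by
    have : (P : Subgroup G) = ⊥ := eq_bot_iff.2 (le_top.trans e.le)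
    rw [this]; infer_instance)
  obtain ⟨L, ⟨hLn, hLne⟩, hmin⟩ := Set.exists_min_image {N : Subgroup G | N.Normal ∧ N ≠ ⊥}
    (fun N => Nat.card N) (Set.toFinite _) ⟨⊤, inferInstance, hne⟩
  haveI := hLn
  have hmin' : ∀ K : Subgroup G, K.Normal → K ≤ L → K = ⊥ ∨ K = L := fun K hK hle =>
    or_iff_not_imp_left.2 fun hb => eq_of_le_of_card_ge hle (hmin K ⟨hK, hb⟩)
  have hd := dvd_of_normal h hLn hLne
  have hpL : Cfsg.pCore p ↥L = ⊥ := by
    rw [← Subgroup.map_eq_bot_iff_of_injective _ (f := L.subtype) Subtype.val_injective, eq_bot_iff,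
      ← pCore_eq_bot h]
    exact Grp.pCore_map_le L
  have hnc : ¬ IsMulCommutative ↥L := by
    intro hcom
    obtain ⟨x, hx⟩ := exists_prime_orderOf_dvd_card' p hd
    have hle : L ≤ centralizer (L : Set G) := fun y hy => mem_centralizer_iff.2 fun z hz =>
      congrArg Subtype.val (hcom.is_comm.comm (⟨z, hz⟩ : ↥L) ⟨y, hy⟩)
    rw [centralizer_eq_bot h hd, le_bot_iff] at hle
    exact hLne hle
  refine ⟨L, hLn, ?_, hnc, hd, centralizer_eq_bot h hd⟩
  haveI : Nontrivial ↥L := L.nontrivial_iff_ne_bot.2 hLne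
  obtain ⟨N, hN, hNmin⟩ := Set.exists_min_image {N : Subgroup ↥L | N.Normal ∧ N ≠ ⊥}
    (fun N => Nat.card N) (Set.toFinite _) ⟨⊤, inferInstance, top_ne_bot⟩
  haveI := hN.1
  by_cases hNtop : N = ⊤
  · refine ⟨fun K hK => or_iff_not_imp_left.2 fun hb => ?_⟩
    have := hNmin K ⟨hK, hb⟩
    rw [hNtop] at this
    exact eq_top_of_card_eq K (le_antisymm (Subgroup.card_le_card_group K)
      (by rwa [Subgroup.card_top] at this))
  exfalso
  -- some conjugate of `N` is another minimal normal subgroup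
  obtain ⟨g, hg⟩ : ∃ g : G, N.map (MulAut.conjNormal g : MulAut ↥L).toMonoidHom ≠ N := by
    by_contra hall
    push Not at hall
    have hn : (N.map L.subtype).Normal := ⟨fun _ hx g => by
      obtain ⟨x, hxN, rfl⟩ := hx
      exact ⟨MulAut.conjNormal g x, (hall g).le ⟨x, hxN, rfl⟩, MulAut.conjNormal_apply g x⟩⟩
    rcases hmin' _ hn (map_subtype_le N) with e | e
    · exact hN.2 ((Subgroup.map_eq_bot_iff_of_injective _ Subtype.val_injective).1 e)
    · refine hNtop (eq_top_iff.2 fun x _ => ?_)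
      obtain ⟨y, hy, hyx⟩ := e.ge x.2
      exact Subtype.ext hyx ▸ hy
  set N' := N.map (MulAut.conjNormal g : MulAut ↥L).toMonoidHom with hN'
  haveI hN'n : N'.Normal := hN.1.map _ (MulAut.conjNormal g : MulAut ↥L).surjective
  have hcard : Nat.card N' = Nat.card N :=
    Subgroup.card_map_of_injective (MulAut.conjNormal g : MulAut ↥L).injective
  have hdisj : N' ⊓ N = ⊥ := by
    by_contra hb
    have h1 := hNmin _ ⟨inferInstance, hb⟩
    have e1 := eq_of_le_of_card_ge (inf_le_right : N' ⊓ N ≤ N) h1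
    exact hg (eq_of_le_of_card_ge (inf_eq_right.1 e1) hcard.le).symm
  have hcomm : ∀ a ∈ N', ∀ b ∈ N, Commute a b := fun a ha b hb =>
    Subgroup.commute_of_normal_of_disjoint N' N inferInstance inferInstance (disjoint_iff.2 hdisj) a b ha hb
  have hdN : p ∣ Nat.card N := by
    by_contra hd'
    refine hN.2 (eq_bot_iff.2 ?_)
    rw [← core_normal_eq_bot h.core L]
    exact Grp.le_pPrimeCore hN.1 (hp.out.coprime_iff_not_dvd.2 hd').symm
  obtain ⟨⟨x, hxN⟩, hx⟩ := exists_prime_orderOf_dvd_card' p hdN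
  rw [Subgroup.orderOf_mk, ← Subgroup.orderOf_coe] at hx
  set X := N'.map L.subtype with hX
  have hXC : X ≤ centralizer ({(x : G)} : Set G) := by
    rintro _ ⟨a, ha, rfl⟩
    exact mem_centralizer_singleton_iff.2 (congrArg Subtype.val (hcomm a ha x hxN).eq)
  have hXcore : Cfsg.pPrimeCore p ↥X = ⊥ := by
    rw [← Cfsg.Agent.Invol.pPrimeCore_map_equiv (N'.equivMapOfInjective L.subtype Subtype.val_injective),
      core_normal_eq_bot (core_normal_eq_bot h.core L) N', Subgroup.map_bot]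
  have hXp := isPGroup_of_npc (npc_of_order h hx) hXC hXcore
  have hN'p : IsPGroup p ↥N' :=
    hXp.of_equiv (N'.equivMapOfInjective L.subtype Subtype.val_injective).symm
  have : N' ≤ Cfsg.pCore p ↥L := Grp.le_pCore inferInstance hN'p
  rw [hpL, le_bot_iff] at this
  exact hN.2 ((Subgroup.map_eq_bot_iff_of_injective _ (MulAut.conjNormal g : MulAut ↥L).injective).1 this)

omit h in
/-- The members of `A` in `L`. -/
def omegaIn (P : Sylow p G) (L : Subgroup G) : Subgroup ↥L := (omega P).subgroupOf L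

variable {L : Subgroup G}

theorem exists_conj_into (hLn : L.Normal) {T : Subgroup G} (hT : IsPGroup p ↥T) (hTL : T ≤ L) :
    ∃ s ∈ L, ∀ y ∈ T, s * y * s⁻¹ ∈ (P : Subgroup G) := by
  haveI := hLn
  have hidx : ¬ p ∣ ((P : Subgroup G).subgroupOf L).index := Grp.sylow_inf_normal_relIndex P L
  let S : Sylow p ↥L := (P.isPGroup'.comap_subtype (K := L)).toSylow hidx
  obtain ⟨R, hR⟩ := (hT.comap_subtype (K := L)).exists_le_sylow
  obtain ⟨s, hs⟩ := MulAction.exists_smul_eq ↥L R S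
  refine ⟨s, s.2, fun y hy => ?_⟩
  have h1 : s * (⟨y, hTL hy⟩ : ↥L) * s⁻¹ ∈ (S : Subgroup ↥L) := by
    rw [← hs, Sylow.coe_subgroup_smul, ← Grp.map_conj_eq_smul]
    exact ⟨⟨y, hTL hy⟩, hR hy, rfl⟩
  exact h1

omit h in
theorem isConj_in {x y : ↥L} (h : ∃ t ∈ L, t * (x : G) * t⁻¹ = (y : G)) : IsConj x y := by
  obtain ⟨t, ht, e⟩ := h
  exact _root_.isConj_iff.2 ⟨⟨t, ht⟩, Subtype.ext e⟩

theorem member_of_mem {x : ↥L} {b : ↥L} (hb : b ∈ omegaIn P L) (hb1 : b ≠ 1) (hxb : IsConj x b) :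
    Member P (x : G) := by
  obtain ⟨t, ht⟩ := _root_.isConj_iff.1 hxb
  refine ⟨fun e => hb1 ?_, t, ?_⟩
  · rw [← ht, show x = 1 from Subtype.ext e]; group
  · have : ((t * x * t⁻¹ : ↥L) : G) ∈ omega P := ht.symm ▸ hb
    exact this

/-- The hypotheses for the simple group, for an odd prime. -/
theorem exists_data (hLn : L.Normal) (hs : IsSimpleGroup ↥L) (hnc : ¬ IsMulCommutative ↥L)
    (hd : p ∣ Nat.card L) (hp2 : p ≠ 2) [Fintype ↥L] :
    ∃ (M : Ideal AlgInt) (c : ℕ), Data p (omegaIn P L) M c := by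
  haveI := hLn
  obtain ⟨M, hM⟩ := Cfsg.Agent.Char.exists_isPModular p hp.out
  set PL := (P : Subgroup G).subgroupOf L with hPL
  obtain ⟨n, hn⟩ : ∃ n, Nat.card ↥PL = p ^ n :=
    IsPGroup.iff_card.1 (P.isPGroup'.comap_subtype (K := L))
  refine ⟨M, p ^ n, hs, hnc, hp2, hM, ?_, ?_, ?_, ?_, ?_⟩
  · intro hb
    rw [omegaIn, Subgroup.subgroupOf_eq_bot, disjoint_iff] at hb
    exact omega_inf_ne_bot h hLn hd hb
  · intro b hb
    exact Subtype.ext hb.2.2
  · intro b hb hb1
    have hb' : (b : G) ∈ omega P := hb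
    obtain ⟨K, hKn, hK, k, hk⟩ := npc_of_order h (orderOf_omega h hb' fun e => hb1 (Subtype.ext e))
    haveI := hKn
    let f : ↥(centralizer ({b} : Set ↥L)) →* ↥(centralizer ({(b : G)} : Set G)) :=
      { toFun := fun y => ⟨((y : ↥L) : G), mem_centralizer_singleton_iff.2
          (congrArg Subtype.val (mem_centralizer_singleton_iff.1 y.2))⟩
        map_one' := rfl
        map_mul' := fun _ _ => rfl }
    have hf : Function.Injective f := fun a c e =>
      Subtype.ext (Subtype.ext (congrArg Subtype.val e :))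
    refine ⟨K.comap f, inferInstance, fun hdK => hK (hdK.trans (card_comap_dvd_of_injective K f hf)), ?_⟩
    obtain ⟨j, -, hj⟩ : ∃ j ≤ k, (K.comap f).index = p ^ j := by
      refine (Nat.dvd_prime_pow hp.out).1 ?_
      rw [← hk, Subgroup.index_comap]
      exact Subgroup.relIndex_dvd_index_of_normal K _
    refine ⟨j, hj, ?_⟩
    congr 1
    have hle : PL ≤ centralizer ({b} : Set ↥L) := fun y hy =>
      mem_centralizer_singleton_iff.2 (Subtype.ext (omega_comm hb hy))
    have h1 : (Nat.card ↥(centralizer ({b} : Set ↥L))).factorization p = j := by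
      rw [← Subgroup.card_mul_index (K.comap f), hj, Nat.factorization_mul Nat.card_pos.ne'
        (pow_ne_zero _ hp.out.ne_zero), Finsupp.add_apply, Nat.factorization_eq_zero_of_not_dvd
          (fun hdK => hK (hdK.trans (card_comap_dvd_of_injective K f hf))),
        hp.out.factorization_pow, Finsupp.single_eq_same, zero_add]
    have h2 : (Nat.card ↥L).factorization p = n := by
      rw [← Subgroup.card_mul_index PL, hn, Nat.factorization_mul (pow_ne_zero _ hp.out.ne_zero)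
        Subgroup.index_ne_zero_of_finite, Finsupp.add_apply, Nat.factorization_eq_zero_of_not_dvd
          (show ¬ p ∣ PL.index from Grp.sylow_inf_normal_relIndex P L),
        hp.out.factorization_pow, Finsupp.single_eq_same, add_zero]
    rw [← h1]
    refine le_antisymm ?_ ?_
    · have h3 := (Nat.factorization_le_iff_dvd Nat.card_pos.ne' Nat.card_pos.ne').2
        (Subgroup.card_dvd_of_le hle) p
      rwa [hn, hp.out.factorization_pow, Finsupp.single_eq_same] at h3
    · have h3 := (Nat.factorization_le_iff_dvd Nat.card_pos.ne' Nat.card_pos.ne').2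
        (Subgroup.card_subgroup_dvd_card (centralizer ({b} : Set ↥L))) p
      rwa [h2] at h3
  · rw [← hn]
    exact Subgroup.card_le_of_le fun y hy => omega_le P hy
  · rintro a b ⟨a₀, ha₀, ha1, haa⟩ ⟨b₀, hb₀, hb1, hbb⟩
    have hma := member_of_mem h ha₀ ha1 haa
    have hmb := member_of_mem h hb₀ hb1 hbb
    obtain ⟨T, hTH, hT, a', ha', b', hb', ⟨ta, hta, eta⟩, ⟨tb, htb, etb⟩, hq⟩ := pair_lemma h hma hmb
    have hHL : closure ({(a : G), (b : G)} : Set G) ≤ L := by
      rw [closure_le]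
      rintro x (rfl | rfl)
      exacts [a.2, b.2]
    obtain ⟨s, hs, hsT⟩ := exists_conj_into h hLn hT (hTH.trans hHL)
    have hin : ∀ {x : G} (w : G) (y : G), Member P x → y * x * y⁻¹ = w → w ∈ T →
        s * w * s⁻¹ ∈ omega P := by
      intro x w y hx e hw
      obtain ⟨hx1, t, ht⟩ := hx
      refine mem_omega_of_member h ⟨fun e' => hx1 ?_, t * y⁻¹ * s⁻¹, ?_⟩ (hsT w hw)
      · rw [mul_inv_eq_one, mul_eq_left] at e'
        rw [e', mul_inv_eq_one, mul_eq_left] at e
        exact e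
      · rw [show t * y⁻¹ * s⁻¹ * (s * w * s⁻¹) * (t * y⁻¹ * s⁻¹)⁻¹ = t * (y⁻¹ * w * y) * t⁻¹ by group,
          ← e, show y⁻¹ * (y * x * y⁻¹) * y = x by group]
        exact ht
    have hTL := hTH.trans hHL
    refine ⟨⟨s * a' * s⁻¹, mul_mem (mul_mem hs (hTL ha')) (inv_mem hs)⟩, hin a' ta hma eta ha',
      ⟨s * b' * s⁻¹, mul_mem (mul_mem hs (hTL hb')) (inv_mem hs)⟩, hin b' tb hmb etb hb',
      isConj_in ⟨s * ta, mul_mem hs (hHL hta), by
        show s * ta * (a : G) * (s * ta)⁻¹ = s * a' * s⁻¹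
        exact (by group : s * ta * (a : G) * (s * ta)⁻¹ = s * (ta * (a : G) * ta⁻¹) * s⁻¹).trans (by rw [eta])⟩,
      isConj_in ⟨s * tb, mul_mem hs (hHL htb), by
        show s * tb * (b : G) * (s * tb)⁻¹ = s * b' * s⁻¹
        exact (by group : s * tb * (b : G) * (s * tb)⁻¹ = s * (tb * (b : G) * tb⁻¹) * s⁻¹).trans (by rw [etb])⟩, fun i j x hx => ?_⟩
    have hxG : Cfsg.IsPPart p ((a : G) ^ i * (b : G) ^ j) (x : G) := by
      obtain ⟨y, hxy, hc, ⟨k, hk⟩, hy⟩ := hx
      exact ⟨y, by simpa using congrArg Subtype.val hxy, hc.map L.subtype,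
        ⟨k, by rw [Subgroup.orderOf_coe]; exact hk⟩, by rw [Subgroup.orderOf_coe]; exact hy⟩
    obtain ⟨t, ht, e⟩ := hq i j x hxG
    refine isConj_in ⟨s * t, mul_mem hs (hHL ht), ?_⟩
    simp only [Subgroup.coe_mul, Subgroup.coe_pow, conj_pow]
    calc s * t * (x : G) * (s * t)⁻¹ = s * (t * (x : G) * t⁻¹) * s⁻¹ := by group
      _ = _ := by rw [e]; group

/-- The prime is two. -/
theorem eq_two : p = 2 := by
  by_contra hp2
  obtain ⟨L, hLn, hs, hnc, hd, -⟩ := exists_simple h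
  haveI := Fintype.ofFinite ↥L
  obtain ⟨M, c, hD⟩ := exists_data h hLn hs hnc hd hp2
  exact odd_absurd hD

end Cfsg.Agent.Fus.PFusionControl
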