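import Cfsg.Prelude.Def_Transfer
import Cfsg.Agent.Lib.Grp.PSolvable
import Cfsg.Agent.Lib.Grp.Frattini
import Cfsg.Agent.Lib.Invol.PComponentOf
import Cfsg.Agent.Lib.Invol.CyclicPairImage

/-!
# Fusion controlled by the Sylow normalizer and pairs generating `p`-soluble groups

`A`, the elements of order dividing `p` of the centre of `P`, is closed, and the conjugates of its elements
in a pair generate a group whose Sylow subgroup maps onto the quotient by the core.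
-/

set_option autoImplicit false
set_option linter.unusedSectionVars false
set_option linter.style.haveILetI false

namespace Cfsg.Agent.Fus.PFusionControl

open Subgroup Cfsg

universe u

variable {G : Type u} [Group G] [Finite G] {p : ℕ} [hp : Fact p.Prime]

/-- The hypotheses of the theorem apart from the exceptional case. -/
structure Hyp (p : ℕ) (P : Sylow p G) : Prop where
  core : Cfsg.pPrimeCore p G = ⊥
  nn : ¬ (P : Subgroup G).Normal
  fus : ∀ x ∈ (P : Subgroup G), ∀ y ∈ (P : Subgroup G), (∃ g : G, g * x * g⁻¹ = y) →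
    ∃ n ∈ normalizer ((P : Subgroup G) : Set G), n * x * n⁻¹ = y
  npc : ∀ x ∈ (P : Subgroup G), orderOf x = p →
    Cfsg.HasNormalPComplement p ↥(centralizer ({x} : Set G))
  pairs : ∀ x y : G, orderOf x = p → orderOf y = p → Cfsg.IsPSolvable p ↥(closure ({x, y} : Set G))

/-- The elements of order dividing `p` in the centre of `P`. -/
def omega (P : Sylow p G) : Subgroup G where
  carrier := {x | x ∈ (P : Subgroup G) ∧ (∀ y ∈ (P : Subgroup G), y * x = x * y) ∧ x ^ p = 1}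
  one_mem' := ⟨one_mem _, fun y _ => by simp, one_pow p⟩
  mul_mem' := fun {a b} ha hb => ⟨mul_mem ha.1 hb.1, fun y hy => by
    rw [← mul_assoc, ha.2.1 y hy, mul_assoc, hb.2.1 y hy, ← mul_assoc], by
    rw [(show Commute a b from (ha.2.1 b hb.1).symm).mul_pow, ha.2.2, hb.2.2, one_mul]⟩
  inv_mem' := fun {a} ha => ⟨inv_mem ha.1, fun y hy =>
    ((show Commute y a from ha.2.1 y hy).inv_right).eq, by rw [inv_pow, ha.2.2, inv_one]⟩

theorem omega_le (P : Sylow p G) : omega P ≤ (P : Subgroup G) := fun _ hx => hx.1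

theorem omega_comm {P : Sylow p G} {x : G} (hx : x ∈ omega P) {y : G} (hy : y ∈ (P : Subgroup G)) :
    y * x = x * y := hx.2.1 y hy

variable {P : Sylow p G}

/-- A conjugate of a nontrivial element of `A`. -/
def Member (P : Sylow p G) (a : G) : Prop := a ≠ 1 ∧ ∃ t : G, t * a * t⁻¹ ∈ omega P

theorem Member.orderOf_eq {a : G} (ha : Member P a) : orderOf a = p := by
  obtain ⟨h1, t, ht⟩ := ha
  refine orderOf_eq_prime ?_ h1
  have h2 := ht.2.2
  rw [conj_pow, mul_inv_eq_one, mul_eq_left] at h2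
  exact h2

/-- A normal `p`-complement, by a subgroup. -/
def Npc (p : ℕ) (H : Subgroup G) : Prop :=
  ∃ K : Subgroup ↥H, K.Normal ∧ ¬ p ∣ Nat.card K ∧ ∃ k, K.index = p ^ k

theorem npc_of_hasNormalPComplement {H : Subgroup G} (h : Cfsg.HasNormalPComplement p ↥H) : Npc p H := by
  obtain ⟨Q, N, hN, hc⟩ := h
  refine ⟨N, hN, ?_, ?_⟩
  · rw [← hc.index_eq_card]; exact Q.not_dvd_index
  · obtain ⟨k, hk⟩ := IsPGroup.iff_card.1 Q.isPGroup'
    exact ⟨k, by rw [hc.symm.index_eq_card]; exact hk⟩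

theorem isPGroup_of_npc {H X : Subgroup G} (h : Npc p H) (hX : X ≤ H)
    (hcore : Cfsg.pPrimeCore p ↥X = ⊥) : IsPGroup p ↥X := by
  obtain ⟨K, hKn, hK, k, hk⟩ := h
  haveI := hKn
  set N := K.comap (Subgroup.inclusion hX) with hN
  have hN1 : N = ⊥ := by
    rw [eq_bot_iff, ← hcore]
    refine Grp.le_pPrimeCore inferInstance (Nat.Coprime.coprime_dvd_left
      (card_comap_dvd_of_injective _ _ (Subgroup.inclusion_injective hX)) ?_)
    exact (hp.out.coprime_iff_not_dvd.2 hK).symm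
  intro x
  refine ⟨k, Subgroup.mem_bot.1 (hN1 ▸ ?_)⟩
  show Subgroup.inclusion hX (x ^ p ^ k) ∈ K
  rw [map_pow, ← hk]
  exact K.pow_index_mem _

variable (h : Hyp p P)
include h

theorem omega_closed {x : G} (hx : x ∈ omega P) {g : G} (hg : g * x * g⁻¹ ∈ (P : Subgroup G)) :
    g * x * g⁻¹ ∈ omega P := by
  obtain ⟨n, hn, e⟩ := h.fus x hx.1 _ hg ⟨g, rfl⟩
  rw [← e]
  refine ⟨(mem_normalizer_iff.1 hn x).1 hx.1, fun y hy => ?_, by rw [conj_pow, hx.2.2]; group⟩
  have hy' : n⁻¹ * y * n ∈ (P : Subgroup G) := by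
    have := (mem_normalizer_iff.1 (inv_mem hn) y).1 hy
    rwa [inv_inv] at this
  calc y * (n * x * n⁻¹) = n * ((n⁻¹ * y * n) * x) * n⁻¹ := by group
    _ = n * (x * (n⁻¹ * y * n)) * n⁻¹ := by rw [hx.2.1 _ hy']
    _ = _ := by group

theorem mem_omega_of_member {a : G} (ha : Member P a) (haP : a ∈ (P : Subgroup G)) : a ∈ omega P := by
  obtain ⟨-, t, ht⟩ := ha
  have := omega_closed h ht (g := t⁻¹) (by simpa [mul_assoc] using haP)
  simpa [mul_assoc] using this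

/-- A conjugate of an element of `A` is central in each `p`-subgroup containing it. -/
theorem member_central {a : G} (ha : Member P a) {R : Subgroup G} (hR : IsPGroup p ↥R) (haR : a ∈ R)
    {r : G} (hr : r ∈ R) : r * a = a * r := by
  obtain ⟨Q, hQ⟩ := hR.exists_le_sylow
  obtain ⟨s, hs⟩ := MulAction.exists_smul_eq G Q P
  have hmem : ∀ y ∈ R, s * y * s⁻¹ ∈ (P : Subgroup G) := fun y hy => by
    rw [← hs, Sylow.coe_subgroup_smul, ← Grp.map_conj_eq_smul]
    exact ⟨y, hQ hy, rfl⟩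
  obtain ⟨ha1, t, ht⟩ := id ha
  have hm : Member P (s * a * s⁻¹) := ⟨by simpa using ha1, t * s⁻¹, by simpa [mul_assoc] using ht⟩
  have h1 := omega_comm (mem_omega_of_member h hm (hmem a haR)) (hmem r hr)
  calc r * a = s⁻¹ * ((s * r * s⁻¹) * (s * a * s⁻¹)) * s := by group
    _ = s⁻¹ * ((s * a * s⁻¹) * (s * r * s⁻¹)) * s := by rw [h1]
    _ = a * r := by group

/-- A pair of members: in the group they generate the `p`-parts of the products of powers are conjugate to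
the products of commuting conjugates in one `p`-subgroup. -/
theorem pair_lemma {a b : G} (ha : Member P a) (hb : Member P b) :
    ∃ T : Subgroup G, T ≤ closure ({a, b} : Set G) ∧ IsPGroup p ↥T ∧ ∃ a' ∈ T, ∃ b' ∈ T,
      (∃ t ∈ closure ({a, b} : Set G), t * a * t⁻¹ = a') ∧
      (∃ t ∈ closure ({a, b} : Set G), t * b * t⁻¹ = b') ∧
      ∀ i j : ℕ, ∀ x, Cfsg.IsPPart p (a ^ i * b ^ j) x →
        ∃ t ∈ closure ({a, b} : Set G), t * x * t⁻¹ = a' ^ i * b' ^ j := by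
  classical
  set H := closure ({a, b} : Set G) with hH
  haveI hN : (Cfsg.pPrimeCore p ↥H).Normal := Grp.pPrimeCore_isNormal
  set π := QuotientGroup.mk' (Cfsg.pPrimeCore p ↥H) with hπ
  have hπs : Function.Surjective π := QuotientGroup.mk'_surjective _
  haveI : (Cfsg.pCore p (↥H ⧸ Cfsg.pPrimeCore p ↥H)).Normal := Grp.pCore_isNormal
  have hC := Grp.centralizer_pCore_le_of_pSolvable
    (Grp.isPSolvable_map (h.pairs a b ha.orderOf_eq hb.orderOf_eq) π hπs)
    (Invol.CyclicPairs.core_quotient ↥H)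
  set Q := Cfsg.pCore p (↥H ⧸ Cfsg.pPrimeCore p ↥H) with hQ
  set aH : ↥H := ⟨a, subset_closure (Set.mem_insert a {b})⟩ with haH
  set bH : ↥H := ⟨b, subset_closure (Set.mem_insert_of_mem a rfl)⟩ with hbH
  have hin : ∀ w : ↥H, Member P (w : G) → π w ∈ Q ∧ ∀ q ∈ Q, q * π w = π w * q := by
    intro w hw
    obtain ⟨R, hR⟩ := (IsPGroup.of_card (n := 1) (by
      rw [Nat.card_zpowers, pow_one, ← Subgroup.orderOf_coe]; exact hw.orderOf_eq) :
        IsPGroup p (zpowers w)).exists_le_sylow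
    have hcent : ∀ q ∈ Q, q * π w = π w * q := by
      intro q hq
      have hle : Q ≤ ((R.mapSurjective hπs : Sylow p (↥H ⧸ Cfsg.pPrimeCore p ↥H)) :
          Subgroup (↥H ⧸ Cfsg.pPrimeCore p ↥H)) := Grp.pCore_le_sylow _
      rw [Sylow.coe_mapSurjective] at hle
      obtain ⟨r, hr, rfl⟩ := hle hq
      rw [← map_mul, ← map_mul]
      exact congrArg π (Subtype.ext (member_central h hw (R.isPGroup'.map H.subtype)
        ⟨w, hR (mem_zpowers w), rfl⟩ ⟨r, hr, rfl⟩))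
    exact ⟨hC (mem_centralizer_iff.2 fun q hq => hcent q hq), hcent⟩
  obtain ⟨haQ, -⟩ := hin aH ha
  obtain ⟨hbQ, hbc⟩ := hin bH hb
  have hab : π aH * π bH = π bH * π aH := hbc _ haQ
  have htop : Q = ⊤ := by
    have h1 : (closure ({aH, bH} : Set ↥H)) = ⊤ := by
      have h2 := Subgroup.closure_closure_coe_preimage (k := ({a, b} : Set G))
      rw [← h2]
      congr 1
      ext ⟨y, hy⟩
      simp [haH, hbH, Subtype.ext_iff]
    rw [eq_top_iff, ← Subgroup.map_top_of_surjective π hπs, ← h1, MonoidHom.map_closure,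
      Subgroup.closure_le]
    rintro _ ⟨y, hy, rfl⟩
    rcases hy with rfl | rfl
    · exact haQ
    · exact hbQ
  have hcomm : ∀ y z : ↥H ⧸ Cfsg.pPrimeCore p ↥H, y * z = z * y := by
    have hgen : closure ({π aH, π bH} : Set (↥H ⧸ Cfsg.pPrimeCore p ↥H)) = ⊤ := by
      have h1 : (closure ({aH, bH} : Set ↥H)) = ⊤ := by
        have h2 := Subgroup.closure_closure_coe_preimage (k := ({a, b} : Set G))
        rw [← h2]
        congr 1
        ext ⟨y, hy⟩
        simp [haH, hbH, Subtype.ext_iff]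
      rw [← Set.image_pair, ← MonoidHom.map_closure, h1, Subgroup.map_top_of_surjective π hπs]
    intro y z
    have hc : IsMulCommutative ↥(closure ({π aH, π bH} : Set (↥H ⧸ Cfsg.pPrimeCore p ↥H))) :=
      isMulCommutative_closure (by
        rintro u (rfl | rfl) v (rfl | rfl)
        exacts [rfl, hab, hab.symm, rfl])
    exact congrArg Subtype.val (hc.is_comm.comm ⟨y, hgen ▸ mem_top y⟩ ⟨z, hgen ▸ mem_top z⟩)
  obtain ⟨R⟩ : Nonempty (Sylow p ↥H) := inferInstance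
  -- each `p`-element is conjugate into `R` without changing its image
  have hmove : ∀ w : ↥H, (∃ k, orderOf w = p ^ k) →
      ∃ t : ↥H, t * w * t⁻¹ ∈ (R : Subgroup ↥H) ∧ π (t * w * t⁻¹) = π w := by
    rintro w ⟨k, hk⟩
    obtain ⟨S, hS⟩ := (IsPGroup.of_card (n := k) (by rw [Nat.card_zpowers, hk]) :
      IsPGroup p (zpowers w)).exists_le_sylow
    obtain ⟨t, ht⟩ := MulAction.exists_smul_eq ↥H S R
    refine ⟨t, ?_, ?_⟩
    · rw [← ht, Sylow.coe_subgroup_smul, ← Grp.map_conj_eq_smul]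
      exact ⟨w, hS (mem_zpowers w), rfl⟩
    · rw [map_mul, map_mul, hcomm (π t), map_inv, mul_inv_cancel_right]
  have hinj : ∀ y ∈ (R : Subgroup ↥H), ∀ z ∈ (R : Subgroup ↥H), π y = π z → y = z := by
    intro y hy z hz e
    have h1 : y⁻¹ * z ∈ Cfsg.pPrimeCore p ↥H := by
      rw [← QuotientGroup.eq]; exact e
    obtain ⟨k, hk⟩ := R.isPGroup' ⟨y⁻¹ * z, mul_mem (inv_mem hy) hz⟩
    have hk' : (y⁻¹ * z) ^ p ^ k = 1 := congrArg Subtype.val hk
    have h2 : orderOf (y⁻¹ * z) ∣ Nat.card (Cfsg.pPrimeCore p ↥H) := by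
      rw [← Subgroup.orderOf_mk _ h1]; exact orderOf_dvd_natCard _
    exact inv_mul_eq_one.1 (orderOf_eq_one_iff.1 (Nat.eq_one_of_dvd_coprimes
      (Nat.Coprime.pow_left k (hp.out.coprime_iff_not_dvd.2 Grp.pPrimeCore_not_dvd))
      (orderOf_dvd_of_pow_eq_one hk') h2))
  obtain ⟨t1, ht1, ea⟩ := hmove aH ⟨1, by rw [pow_one, ← Subgroup.orderOf_coe]; exact ha.orderOf_eq⟩
  obtain ⟨t2, ht2, eb⟩ := hmove bH ⟨1, by rw [pow_one, ← Subgroup.orderOf_coe]; exact hb.orderOf_eq⟩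
  refine ⟨(R : Subgroup ↥H).map H.subtype, map_subtype_le _, R.isPGroup'.map _, _,
    ⟨_, ht1, rfl⟩, _, ⟨_, ht2, rfl⟩, ⟨t1, t1.2, rfl⟩, ⟨t2, t2.2, rfl⟩, fun i j x hx => ?_⟩
  obtain ⟨y, hxy, hc, ⟨k, hk⟩, hy⟩ := hx
  have hwH : a ^ i * b ^ j ∈ H := mul_mem (pow_mem aH.2 i) (pow_mem bH.2 j)
  obtain ⟨n, hn⟩ : ∃ n : ℕ, (x * y) ^ n = x := by
    obtain ⟨l, hl1, hl2⟩ := Nat.chineseRemainder (n := orderOf x) (m := orderOf y)
      (hk ▸ Nat.Coprime.pow_left k (hp.out.coprime_iff_not_dvd.2 hy)) 1 0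
    exact ⟨l, by rw [hc.mul_pow, pow_eq_pow_iff_modEq.2 hl1, pow_one,
      orderOf_dvd_iff_pow_eq_one.1 (Nat.modEq_zero_iff_dvd.1 hl2), mul_one]⟩
  have hxH : x ∈ H := by rw [← hn, hxy]; exact pow_mem hwH n
  obtain ⟨t, ht, et⟩ := hmove ⟨x, hxH⟩ ⟨k, by rw [← Subgroup.orderOf_coe]; exact hk⟩
  refine ⟨t, t.2, ?_⟩
  have hyH : y ∈ H := by
    rw [show y = x⁻¹ * (x * y) by group, hxy]; exact mul_mem (inv_mem hxH) hwH
  have hy1 : π ⟨y, hyH⟩ = 1 := by
    obtain ⟨l, hl⟩ := (htop ▸ Grp.pCore_isPGroup (p := p) (G := ↥H ⧸ Cfsg.pPrimeCore p ↥H) :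
      IsPGroup p ↥(⊤ : Subgroup (↥H ⧸ Cfsg.pPrimeCore p ↥H))) ⟨π ⟨y, hyH⟩, mem_top _⟩
    exact orderOf_eq_one_iff.1 (Nat.eq_one_of_dvd_coprimes
      (Nat.Coprime.pow_left l (hp.out.coprime_iff_not_dvd.2 hy))
      (orderOf_dvd_of_pow_eq_one (congrArg Subtype.val hl))
      ((orderOf_map_dvd π _).trans (dvd_of_eq (Subgroup.orderOf_mk y hyH))))
  have hπx : π ⟨x, hxH⟩ = π ((t1 * aH * t1⁻¹) ^ i * (t2 * bH * t2⁻¹) ^ j) := by
    rw [map_mul, map_pow, map_pow, ea, eb, ← map_pow, ← map_pow, ← map_mul,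
      show (aH ^ i * bH ^ j : ↥H) = ⟨x, hxH⟩ * ⟨y, hyH⟩ from Subtype.ext hxy.symm, map_mul, hy1, mul_one]
  exact congrArg Subtype.val (hinj _ ht _ (mul_mem (pow_mem ht1 i) (pow_mem ht2 j)) (et.trans hπx))

end Cfsg.Agent.Fus.PFusionControl
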