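import Cfsg.Agent.Lib.Fus.PFusionControl.Reduce
import Cfsg.Agent.Lib.Fus.ClosedProduct.Model
import Cfsg.Agent.Lib.Fus.Goldschmidt.Main
import Cfsg.Agent.Lib.Fus.OddTransp.LineModels

/-!
# The case of the prime two: Suzuki's groups

Goldschmidt's theorem gives an abelian Sylow subgroup, which is excluded, or a strongly embedded
subgroup, where the normal complements in the centralizers of involutions leave only Suzuki's groups.
-/

set_option autoImplicit false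
set_option linter.unusedSectionVars false
set_option linter.style.haveILetI false

namespace Cfsg.Agent.Fus.PFusionControl

open Subgroup Cfsg
open scoped commutatorElement

universe u

/-- An element centralising `w` and keeping `T` acts on `T` as an element of the Sylow subgroup. -/
theorem split_of_npc {G : Type u} [Group G] [Finite G] (S : Sylow 2 G) {T : Subgroup G}
    (hTS : T ≤ (S : Subgroup G)) (hST : ∀ s ∈ (S : Subgroup G), ∀ x ∈ T, s * x * s⁻¹ ∈ T) {w : G}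
    (hw : ∀ s ∈ (S : Subgroup G), s * w = w * s) (hnpc : Npc 2 (centralizer ({w} : Set G))) {n : G}
    (hnw : n * w = w * n) (hnT : ∀ x ∈ T, n * x * n⁻¹ ∈ T) :
    ∃ k s : G, n = k * s ∧ s ∈ (S : Subgroup G) ∧ Odd (orderOf k) ∧ ∀ x ∈ T, k * x = x * k := by
  haveI : Fact (Nat.Prime 2) := ⟨Nat.prime_two⟩
  set C := centralizer ({w} : Set G) with hC
  obtain ⟨K, hKn, hK, j, hj⟩ := hnpc
  haveI := hKn
  have hSC : (S : Subgroup G) ≤ C := fun s hs => mem_centralizer_singleton_iff.2 (hw s hs)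
  set SC := (S : Subgroup G).subgroupOf C with hSCdef
  have htop : K ⊔ SC = ⊤ := by
    rw [← Subgroup.index_eq_one]
    have h1 : (K ⊔ SC).index ∣ 2 ^ j := by
      rw [← hj]
      exact Subgroup.index_dvd_of_le (H := K) (K := K ⊔ SC) le_sup_left
    have h2a : SC.index ∣ (S : Subgroup G).index := by
      have h3 := (S : Subgroup G).relIndex_mul_index hSC
      rw [Subgroup.relIndex] at h3
      exact Dvd.intro _ h3
    have h2 : (K ⊔ SC).index ∣ (S : Subgroup G).index :=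
      (Subgroup.index_dvd_of_le (H := SC) (K := K ⊔ SC) le_sup_right).trans h2a
    exact Nat.eq_one_of_dvd_coprimes
      (Nat.Coprime.pow_left j (Nat.prime_two.coprime_iff_not_dvd.2 S.not_dvd_index)) h1 h2
  have hnC : (⟨n, mem_centralizer_singleton_iff.2 hnw⟩ : ↥C) ∈ K ⊔ SC := by rw [htop]; exact mem_top _
  obtain ⟨k, hk, s, hs, e⟩ := mem_sup_of_normal_left.1 hnC
  have e' : n = (k : G) * (s : G) := (congrArg Subtype.val e).symm
  refine ⟨k, s, e', hs, ?_, fun x hx => ?_⟩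
  · rw [Subgroup.orderOf_coe, Nat.odd_iff, Nat.two_dvd_ne_zero.symm]
    intro hd
    exact hK (hd.trans ((dvd_of_eq (Subgroup.orderOf_mk k hk).symm).trans (orderOf_dvd_natCard _)))
  -- `[k, T]` lies in `T` and in `K`
  have hkT : (k : G) * x * (k : G)⁻¹ ∈ T := by
    have h1 := hnT _ (hST _ (inv_mem hs) x hx)
    rw [e'] at h1
    simpa [mul_assoc] using h1
  set c := (k : G) * x * (k : G)⁻¹ * x⁻¹ with hc
  have hcT : c ∈ (S : Subgroup G) := hTS (mul_mem hkT (inv_mem hx))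
  have hxC : x ∈ C := hSC (hTS hx)
  have hcK : (⟨c, hSC hcT⟩ : ↥C) ∈ K := by
    rw [show (⟨c, hSC hcT⟩ : ↥C) = k * (⟨x, hxC⟩ * k⁻¹ * ⟨x, hxC⟩⁻¹) from Subtype.ext (by
      simp [hc, mul_assoc])]
    exact mul_mem hk (hKn.conj_mem _ (inv_mem hk) _)
  have h1 : c = 1 := by
    obtain ⟨i, hi⟩ := S.isPGroup' ⟨c, hcT⟩
    have h2 : orderOf c ∣ Nat.card K := by
      rw [← Subgroup.orderOf_mk c (hSC hcT), ← Subgroup.orderOf_mk _ hcK]
      exact orderOf_dvd_natCard _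
    exact orderOf_eq_one_iff.1 (Nat.eq_one_of_dvd_coprimes
      (Nat.Coprime.pow_left i (Nat.prime_two.coprime_iff_not_dvd.2 hK))
      (orderOf_dvd_of_pow_eq_one (show c ^ 2 ^ i = 1 from congrArg Subtype.val hi)) h2)
  rw [hc, mul_inv_eq_one, mul_inv_eq_iff_eq_mul] at h1
  exact h1

/-- The centralizer in a normal subgroup inherits the complement. -/
theorem npc_subgroup {G : Type u} [Group G] [Finite G] {p : ℕ} [hp : Fact p.Prime] {L : Subgroup G}
    {b : ↥L} (hb : Npc p (centralizer ({(b : G)} : Set G))) : Npc p (centralizer ({b} : Set ↥L)) := by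
  obtain ⟨K, hKn, hK, k, hk⟩ := hb
  haveI := hKn
  let f : ↥(centralizer ({b} : Set ↥L)) →* ↥(centralizer ({(b : G)} : Set G)) :=
    { toFun := fun y => ⟨((y : ↥L) : G), mem_centralizer_singleton_iff.2
        (congrArg Subtype.val (mem_centralizer_singleton_iff.1 y.2))⟩
      map_one' := rfl
      map_mul' := fun _ _ => rfl }
  have hf : Function.Injective f := fun a c e =>
    Subtype.ext (Subtype.ext (congrArg Subtype.val e :))
  refine ⟨K.comap f, inferInstance, fun hdK => hK (hdK.trans (card_comap_dvd_of_injective K f hf)), ?_⟩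
  obtain ⟨j, -, hj⟩ : ∃ j ≤ k, (K.comap f).index = p ^ j := by
    refine (Nat.dvd_prime_pow hp.out).1 ?_
    rw [← hk, Subgroup.index_comap]
    exact Subgroup.relIndex_dvd_index_of_normal K _
  exact ⟨j, hj⟩

variable {G : Type u} [Group G] [Finite G] [Fact (Nat.Prime 2)] {P : Sylow 2 G}

/-- Suzuki's groups. -/
theorem suzuki_of_two (h : Hyp 2 P)
    (hd : ¬ (Cfsg.IsElementaryAbelian 2 (P : Subgroup G) ∧
      ∀ x ∈ (P : Subgroup G), ∀ y ∈ (P : Subgroup G), x ≠ 1 → y ≠ 1 → ∃ g : G, g * x * g⁻¹ = y)) :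
    Cfsg.Lie.IsoSuzuki G := by
  classical
  obtain ⟨L, hLn, hs, hnc, h2L, hcL⟩ := exists_simple h
  haveI := hLn
  haveI := hs
  set α : G →* MulAut ↥L := MulAut.conjNormal with hα
  have hker : ∀ g : G, α g = 1 → g = 1 := fun g hg => by
    have : g ∈ centralizer (L : Set G) := mem_centralizer_iff.2 fun x hx => by
      have h1 : g * x * g⁻¹ = x := (MulAut.conjNormal_apply g ⟨x, hx⟩).symm.trans
        (congrArg Subtype.val (DFunLike.congr_fun hg (⟨x, hx⟩ : ↥L)))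
      rw [mul_inv_eq_iff_eq_mul] at h1
      exact h1.symm
    rwa [hcL, mem_bot] at this
  have hinner : ∀ (g : G) (q : ↥L), α g = MulAut.conj q → g ∈ L := fun g q e => by
    have h1 : α ((q : G)⁻¹ * g) = 1 := by
      rw [map_mul, e, map_inv, inv_mul_eq_one]
      ext x
      simp [hα]
    have h2 : g = q := (inv_mul_eq_one.1 (hker _ h1)).symm
    exact h2 ▸ q.2
  -- the Sylow subgroup of `L` and the involutions
  set W := omegaIn P L with hW
  let Q : Sylow 2 ↥L := (P.isPGroup'.comap_subtype (K := L)).toSylow (Grp.sylow_inf_normal_relIndex P L)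
  have hQmem : ∀ x : ↥L, x ∈ (Q : Subgroup ↥L) ↔ (x : G) ∈ (P : Subgroup G) := fun x => Iff.rfl
  have hWQ : W ≤ (Q : Subgroup ↥L) := fun x hx => omega_le P hx
  have hWne : W ≠ ⊥ := fun hb => by
    rw [hW, omegaIn, Subgroup.subgroupOf_eq_bot, disjoint_iff] at hb
    exact omega_inf_ne_bot h hLn h2L hb
  have hWc : ∀ w ∈ W, ∀ s ∈ (P : Subgroup G), s * (w : G) = (w : G) * s := fun w hw s hs =>
    omega_comm hw hs
  have hWel : Cfsg.IsElementaryAbelian 2 W :=
    ⟨⟨⟨fun a b => Subtype.ext (Subtype.ext (omega_comm b.2 (omega_le P a.2)))⟩⟩,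
      fun a ha => Subtype.ext ha.2.2⟩
  have hWcl : Cfsg.IsStronglyClosed W (Q : Subgroup ↥L) :=
    ⟨hWQ, fun x hx g hg => omega_closed h hx (g := (g : G)) hg⟩
  obtain ⟨hor, hinv, hcen, htrans⟩ := Gold.conclusion_all ↥L hs hnc Q W hWne hWel hWcl
  have hWiff : ∀ x, x ∈ W ↔ x ∈ (Q : Subgroup ↥L) ∧ x * x = 1 := fun x =>
    ⟨fun hx => ⟨hWQ hx, by rw [← pow_two]; exact hWel.2 x hx⟩, fun hx => hinv x hx.1 hx.2⟩
  have hpow : ∀ s ∈ (P : Subgroup G), ∃ i : ℕ, α s ^ 2 ^ i = 1 := fun s hs => by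
    obtain ⟨i, hi⟩ := P.isPGroup' ⟨s, hs⟩
    exact ⟨i, by rw [← map_pow, show s ^ 2 ^ i = 1 from congrArg Subtype.val hi, map_one]⟩
  by_cases hQW : (Q : Subgroup ↥L) = W
  · -- the Sylow subgroup is elementary abelian
    exfalso
    have hPL : (P : Subgroup G) ≤ L := fun s hs => by
      obtain ⟨q, -, e⟩ := ClosedProduct.inner_of_abelian hnc h2L Q
        (fun a ha b hb => congrArg Subtype.val (hWel.1.is_comm.comm (⟨a, hQW ▸ ha⟩ : W) ⟨b, hQW ▸ hb⟩))
        (α s) (hpow s hs) fun t ht => Subtype.ext (by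
          rw [hα, MulAut.conjNormal_apply, hWc t (hQW ▸ ht) s hs, mul_inv_cancel_right])
      exact hinner s q e
    have hmem : ∀ x ∈ (P : Subgroup G), ∃ hx : x ∈ L, (⟨x, hx⟩ : ↥L) ∈ W := fun x hx =>
      ⟨hPL hx, hQW ▸ (hQmem _).2 hx⟩
    refine hd ⟨⟨⟨⟨fun a b => Subtype.ext ?_⟩⟩, fun a ha => (hmem a ha).2.2.2⟩, fun x hx y hy hx1 hy1 => ?_⟩
    · obtain ⟨hb, hbW⟩ := hmem (b : G) b.2
      exact hWc ⟨(b : G), hb⟩ hbW (a : G) a.2
    · obtain ⟨hxL, hxW⟩ := hmem x hx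
      obtain ⟨hyL, hyW⟩ := hmem y hy
      obtain ⟨g, -, hg⟩ := htrans _ hxW _ hyW (fun e => hx1 (congrArg Subtype.val e))
        (fun e => hy1 (congrArg Subtype.val e))
      exact ⟨g, congrArg Subtype.val hg⟩
  obtain ⟨H, hH⟩ := hor.resolve_left hQW
  obtain ⟨t₀, ht₀, ht₀W⟩ : ∃ t ∈ (Q : Subgroup ↥L), t ∉ W := by
    by_contra hall
    push Not at hall
    exact hQW (le_antisymm hall hWQ)
  have hB := (Gold.bender_of_se hnc hH).1
  obtain ⟨-, hcom, htr, -⟩ := ClosedProduct.bender_facts hB Q hWiff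
  obtain ⟨⟨w, hw⟩, hw1⟩ := (Subgroup.ne_bot_iff_exists_ne_one).1 hWne
  have hw1' : w ≠ 1 := fun e => hw1 (Subtype.ext e)
  have hnpc : ∀ v ∈ W, v ≠ 1 → Npc 2 (centralizer ({(v : G)} : Set G)) := fun v hv hv1 =>
    npc_of_order h (orderOf_omega h hv fun e => hv1 (Subtype.ext e))
  -- the torus of a linear or unitary group does not centralise an involution
  have htor : ¬ Invol.CentRank.Cyc.TorusData (Q : Subgroup ↥L) := by
    rintro ⟨W', x, hW'Q, hW'2, -, hW'inv, hn, -, -, -, m, hm, hsur⟩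
    refine ht₀W ?_
    set g := x ^ m with hg
    have hgQ : ∀ k : ℕ, ∀ y ∈ (Q : Subgroup ↥L), x ^ k * y * (x ^ k)⁻¹ ∈ (Q : Subgroup ↥L) := by
      intro k
      induction k with
      | zero => intro y hy; simpa using hy
      | succ k ih =>
        intro y hy
        rw [show x ^ (k + 1) * y * (x ^ (k + 1))⁻¹ = x * (x ^ k * y * (x ^ k)⁻¹) * x⁻¹ by
          rw [pow_succ']; group]
        exact hn _ (ih y hy)
    have hgw : g * w = w * g := by
      have h1 := hm w (hW'inv w (hWQ hw) ((hWiff w).1 hw).2)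
      rwa [mul_inv_eq_iff_eq_mul] at h1
    obtain ⟨k, s, e, hs, -, hk⟩ := split_of_npc Q le_rfl
      (fun s hs y hy => mul_mem (mul_mem hs hy) (inv_mem hs))
      (fun s hs => Subtype.ext (hWc w hw _ hs)) (npc_subgroup (hnpc w hw hw1')) hgw (hgQ m)
    obtain ⟨y, hy, hyW⟩ := hsur t₀ ht₀
    have h1 : g * y * g⁻¹ = s * y * s⁻¹ := by
      have hsy : s * y * s⁻¹ ∈ (Q : Subgroup ↥L) := mul_mem (mul_mem hs hy) (inv_mem hs)
      rw [e, show k * s * y * (k * s)⁻¹ = k * (s * y * s⁻¹) * k⁻¹ by group, hk _ hsy, mul_inv_cancel_right]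
    have h2 : y⁻¹ * (g * y * g⁻¹) ∈ W := by
      rw [h1, show y⁻¹ * (s * y * s⁻¹) = ⁅y⁻¹, s⁆ by rw [commutatorElement_def]; group]
      exact hcom _ (inv_mem hy) _ hs
    have h3 : t₀⁻¹ * (y⁻¹ * (g * y * g⁻¹)) ∈ W := hinv _ (hW'Q hyW) (hW'2 _ hyW)
    have := mul_mem h2 (inv_mem h3)
    rwa [show y⁻¹ * (g * y * g⁻¹) * (t₀⁻¹ * (y⁻¹ * (g * y * g⁻¹)))⁻¹ = t₀ by group] at this
  rcases hB with ⟨F, i, j, hc, h4, ⟨e⟩⟩ | ⟨F, i, j, q, hq, h4, hF, ⟨e⟩⟩ | ⟨F, i, j, m, hm, hF, ⟨e⟩⟩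
  · haveI := hc
    obtain ⟨Pb, hdt⟩ := Invol.CentRank.Cyc.torus_sl (F := F) h4
    obtain ⟨ψ, hψ⟩ := Invol.CentRank.exists_iso_sylow e.symm Pb Q
    exact absurd (hψ ▸ hdt.map ψ) htor
  · obtain ⟨Pb, hdt⟩ := Invol.CentRank.Cyc.torus_psu hF hq h4
    obtain ⟨ψ, hψ⟩ := Invol.CentRank.exists_iso_sylow e.symm Pb Q
    exact absurd (hψ ▸ hdt.map ψ) htor
  have hS : Suz.SzField F m := ⟨hm, hF⟩
  have hf := OTLine.SzFacts.congr ((Suz.szEquiv hS).trans e.symm) (OTLine.szFacts_model hS)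
  -- the whole Sylow subgroup is inner
  have hPL : (P : Subgroup G) ≤ L := fun s hs => by
    obtain ⟨q, hq⟩ := hf.inner (α s) (hpow s hs)
    exact hinner s q hq
  have hTop : L = ⊤ := by
    rw [eq_top_iff, ← Sylow.normalizer_sup_eq_top Q]
    refine sup_le (fun n hn => ?_) le_rfl
    -- `n` normalizes `P`
    have hmap : (Q : Subgroup ↥L).map L.subtype = (P : Subgroup G) :=
      Subgroup.map_subgroupOf_eq_of_le hPL
    rw [hmap] at hn
    have hnQ : ∀ x ∈ (P : Subgroup G), n * x * n⁻¹ ∈ (P : Subgroup G) := fun x hx =>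
      (mem_normalizer_iff.1 hn x).1 hx
    have hnwL : n * (w : G) * n⁻¹ ∈ L := hLn.conj_mem _ w.2 n
    have hnwW : (⟨_, hnwL⟩ : ↥L) ∈ W := omega_closed h hw (hnQ _ (omega_le P hw))
    obtain ⟨l, hl, hle⟩ := htr _ hnwW w hw (fun e' => hw1' (Subtype.ext (by
      have h1 : n * (w : G) * n⁻¹ = 1 := congrArg Subtype.val e'
      rwa [mul_inv_eq_one, mul_eq_left] at h1))) hw1'
    set n' := (l : G) * n with hn'
    have hn'w : n' * (w : G) = (w : G) * n' := by
      have h1 : (l : G) * (n * (w : G) * n⁻¹) * (l : G)⁻¹ = (w : G) := congrArg Subtype.val hle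
      rw [← mul_inv_eq_iff_eq_mul, hn']
      calc (l : G) * n * (w : G) * ((l : G) * n)⁻¹ = (l : G) * (n * (w : G) * n⁻¹) * (l : G)⁻¹ := by group
        _ = _ := h1
    have hn'P : ∀ x ∈ (P : Subgroup G), n' * x * n'⁻¹ ∈ (P : Subgroup G) := fun x hx => by
      rw [hn', show (l : G) * n * x * ((l : G) * n)⁻¹ = (l : G) * (n * x * n⁻¹) * (l : G)⁻¹ by group]
      exact (hQmem _).1 ((mem_normalizer_iff.1 hl ⟨_, hPL (hnQ x hx)⟩).1 ((hQmem _).2 (hnQ x hx)))
    obtain ⟨k, s, e', hs, hko, hk⟩ := split_of_npc P le_rfl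
      (fun s hs y hy => mul_mem (mul_mem hs hy) (inv_mem hs)) (hWc w hw) (hnpc w hw hw1') hn'w hn'P
    have hk1 : α k = 1 := Gold.eq_one_of_fix_sylow_se hnc hH Q (α k)
      (hko.of_dvd_nat (orderOf_map_dvd α k)) fun t ht => Subtype.ext (by
        rw [hα, MulAut.conjNormal_apply, hk _ ((hQmem t).1 ht), mul_inv_cancel_right])
    have hn'L : n' ∈ L := by rw [e', hker k hk1, one_mul]; exact hPL hs
    rw [show n = (l : G)⁻¹ * n' by rw [hn']; group]
    exact mul_mem (inv_mem l.2) hn'L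
  obtain ⟨φ⟩ : Nonempty (↥L ≃* G) := ⟨(MulEquiv.subgroupCongr hTop).trans Subgroup.topEquiv⟩
  exact ⟨F, i, j, m, hm, hF, ⟨φ.symm.trans e⟩⟩

end Cfsg.Agent.Fus.PFusionControl
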